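import Cfsg.Agent.Lib.Blk83.Weight
import Cfsg.Agent.Lib.Char.Twist
import Cfsg.Agent.Lib.Char.CentralOver
import Cfsg.Agent.Lib.TwoGroupInvol.Basic
import Mathlib.GroupTheory.CommutingProbability
import Mathlib.GroupTheory.PGroup
import Mathlib.LinearAlgebra.Determinant

/-! Counting irreducible characters of degree prime to `ℓ` in small local groups. -/

set_option autoImplicit false

open scoped Classical

namespace CfsgLib.SL2Cusp

universe u v

theorem comp_card_le {H : Type u} [Group H] [Finite H] {K : Type v} [Group K] [Finite K]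
    (e : H ≃* K) (P : ℕ → Prop) :
    Nat.card {χ : Cfsg.IrrCharacter K // P (Cfsg.charDegree (χ : K → ℂ))} ≤
      Nat.card {χ : Cfsg.IrrCharacter H // P (Cfsg.charDegree (χ : H → ℂ))} := by
  refine Nat.card_le_card_of_injective (fun χ =>
    ⟨⟨(χ.1 : K → ℂ) ∘ e, CfsgLib.CharTwist.isIrrCharacter_comp_equiv χ.1.2 e⟩, by
      have := χ.2
      simpa [Cfsg.charDegree] using this⟩) fun a b h => ?_
  apply Subtype.ext
  apply Subtype.ext
  funext k
  have := congrFun (congrArg Subtype.val (congrArg Subtype.val h)) (e.symm k)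
  simpa using this

theorem count_congr {H : Type u} [Group H] [Finite H] {K : Type v} [Group K] [Finite K]
    (e : H ≃* K) (P : ℕ → Prop) :
    Nat.card {χ : Cfsg.IrrCharacter H // P (Cfsg.charDegree (χ : H → ℂ))} =
      Nat.card {χ : Cfsg.IrrCharacter K // P (Cfsg.charDegree (χ : K → ℂ))} :=
  le_antisymm (comp_card_le e.symm P) (comp_card_le e P)

/-- With an abelian normal subgroup of index prime to `ℓ`, all degrees are prime to `ℓ`. -/
theorem count_abelian_normal {H : Type u} [Group H] [Finite H] {ℓ : ℕ} (A : Subgroup H) [A.Normal]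
    (hA : ∀ a ∈ A, ∀ b ∈ A, a * b = b * a) (hidx : ¬ ℓ ∣ A.index) :
    Nat.card {χ : Cfsg.IrrCharacter H // ¬ ℓ ∣ Cfsg.charDegree (χ : H → ℂ)} =
      Nat.card (ConjClasses H) := by
  haveI := Fintype.ofFinite H
  rw [← CfsgLib.Char.card_irrCharacter]
  exact Nat.card_congr (Equiv.subtypeUnivEquiv fun χ h =>
    hidx (h.trans (CfsgLib.Blk83.deg_dvd_index χ A hA)))

/-- A `2`-group has as many characters of odd degree as linear characters. -/
theorem count_two_group {H : Type u} [Group H] [Finite H] (h : IsPGroup 2 H) :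
    Nat.card {χ : Cfsg.IrrCharacter H // ¬ 2 ∣ Cfsg.charDegree (χ : H → ℂ)} =
      (commutator H).index := by
  haveI := Fintype.ofFinite H
  haveI := Fact.mk Nat.prime_two
  rw [← CfsgLib.TwoGroupInvol.card_linear, Nat.card_congr CfsgLib.Char.linearCharEquiv]
  refine Nat.card_congr (Equiv.subtypeEquivRight fun χ => ?_)
  rw [← CfsgLib.BlockReg.deg_cast, Nat.cast_eq_one]
  refine ⟨fun hd => ?_, fun e => by rw [e]; decide⟩
  obtain ⟨n, hn⟩ := IsPGroup.iff_card.1 h
  obtain ⟨k, -, hk⟩ := (Nat.dvd_prime_pow Nat.prime_two).1 (hn ▸ CfsgLib.BlockReg.deg_dvd_card χ)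
  cases k with
  | zero => simpa using hk
  | succ k => exact absurd (hk ▸ dvd_pow_self 2 (Nat.succ_ne_zero k)) hd

/-- A central involution in the commutator subgroup acts trivially in odd degree. -/
theorem apply_central_of_odd {H : Type u} [Group H] [Finite H] (χ : Cfsg.IrrCharacter H) {z : H}
    (hz : z ∈ Subgroup.center H) (hz2 : z * z = 1) (hzc : z ∈ commutator H)
    (hd : ¬ 2 ∣ Cfsg.charDegree (χ : H → ℂ)) : (χ : H → ℂ) z = (χ : H → ℂ) 1 := by
  obtain ⟨n, ρ, hρ, hχ⟩ := χ.2
  obtain ⟨c, hc⟩ := CfsgLib.Char.exists_scalar_of_commute ρ (ρ z) fun h => by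
    rw [← map_mul, ← map_mul, Subgroup.mem_center_iff.1 hz h]
  let δ : H →* ℂˣ := ((LinearMap.det).comp ρ).toHomUnits
  have hδ : δ z = 1 := Abelianization.commutator_subset_ker δ hzc
  have hone : c ^ n = 1 := by
    have h := congrArg Units.val hδ
    simpa [δ, hc] using h
  have hn : Cfsg.charDegree (χ : H → ℂ) = n := by
    simp [← hχ, Cfsg.charDegree, Representation.char_one]
  have hn0 : n ≠ 0 := fun e => (CfsgLib.BlockReg.deg_pos χ).ne' (hn.trans e)
  haveI : NeZero n := ⟨hn0⟩
  have hsq : c * c = 1 := by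
    have h := congrArg (fun T : Module.End ℂ (Fin n → ℂ) => T (fun _ => 1) 0)
      (show ρ z * ρ z = 1 by rw [← map_mul, hz2, map_one])
    simpa [hc] using h
  have hc1 : c = 1 := by
    rcases mul_self_eq_one_iff.1 hsq with e | e
    · exact e
    · exfalso
      rw [e, (Nat.not_even_iff_odd.1 (fun he => hd (hn ▸ he.two_dvd))).neg_one_pow] at hone
      norm_num at hone
  rw [← hχ]
  simp [Representation.character, hc, hc1]

theorem twelve_conjClasses {Q : Type u} [Group Q] [Finite Q] (hQ : Nat.card Q = 12)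
    (V : Subgroup Q) [V.Normal] (hV : Nat.card V = 4)
    (hcen : ∀ v ∈ V, v ≠ 1 → ∀ w : Q, w * v = v * w → w ∈ V) :
    Nat.card (ConjClasses Q) = 4 := by
  haveI := Fintype.ofFinite Q
  haveI := Fact.mk Nat.prime_two
  have hab : ∀ a ∈ V, ∀ b ∈ V, a * b = b * a := fun a ha b hb => by
    haveI := IsPGroup.isMulCommutative_of_card_eq_prime_sq (p := 2) (G := V) (by rw [hV]; norm_num)
    exact congrArg Subtype.val (mul_comm' (⟨a, ha⟩ : V) (⟨b, hb⟩ : V))
  have hidx : V.index = 3 := by
    have := V.card_mul_index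
    rw [hV, hQ] at this
    omega
  have hfib : ∀ g : Q, Nat.card {h : Q // Commute g h} =
      if g = 1 then 12 else if g ∈ V then 4 else 3 := by
    intro g
    split_ifs with h1 h2
    · rw [h1, ← hQ]
      exact Nat.card_congr (Equiv.subtypeUnivEquiv fun h => Commute.one_left h)
    · rw [← hV]
      exact Nat.card_congr (Equiv.subtypeEquivRight fun h =>
        ⟨fun e => hcen g h2 h1 h e.eq.symm, fun e => hab g h2 h e⟩)
    · set C := Subgroup.centralizer ({g} : Set Q) with hC
      have hcard : Nat.card {h : Q // Commute g h} = Nat.card C :=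
        Nat.card_congr (Equiv.subtypeEquivRight fun h => by
          show Commute g h ↔ h ∈ C
          rw [hC, Subgroup.mem_centralizer_singleton_iff]
          exact ⟨fun e => e.eq.symm, fun e => (e : h * g = g * h).symm⟩)
      rw [hcard]
      have hgC : g ∈ C := Subgroup.mem_centralizer_singleton_iff.2 rfl
      have hle : Nat.card C * 4 ≤ 12 := by
        rw [← hV, ← hQ, ← Nat.card_prod]
        refine Nat.card_le_card_of_injective (fun p : C × V => (p.1 : Q) * (p.2 : Q)) ?_
        rintro ⟨c, v⟩ ⟨c', v'⟩ e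
        simp only at e
        have e' : (c' : Q)⁻¹ * c = (v' : Q) * (v : Q)⁻¹ := by
          rw [inv_mul_eq_iff_eq_mul, ← mul_assoc, ← e, mul_inv_cancel_right]
        by_cases hone : (v' : Q) * (v : Q)⁻¹ = 1
        · rw [hone] at e'
          exact Prod.ext (Subtype.ext (inv_mul_eq_one.1 e').symm)
            (Subtype.ext (mul_inv_eq_one.1 hone).symm)
        · exfalso
          apply h2
          refine hcen _ (V.mul_mem v'.2 (V.inv_mem v.2)) hone g ?_
          rw [← e']
          exact (Subgroup.mem_centralizer_singleton_iff.1 (C.mul_mem (C.inv_mem c'.2) c.2)).symm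
      have hne1 : Nat.card C ≠ 1 := fun e => h1 (by
        have := (Subgroup.card_eq_one.1 e) ▸ hgC
        simpa using this)
      have hne2 : Nat.card C ≠ 2 := fun e => by
        have h4 : g ^ 2 = 1 := by
          have := congrArg Subtype.val (pow_card_eq_one' (x := (⟨g, hgC⟩ : C)))
          rwa [e] at this
        have h3 : g ^ 3 ∈ V := hidx ▸ V.pow_index_mem g
        rw [pow_succ, h4, one_mul] at h3
        exact h2 h3
      have : 0 < Nat.card C := Nat.card_pos
      omega
  have hsum : Nat.card {p : Q × Q // Commute p.1 p.2} = 48 := by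
    rw [Nat.card_congr (Equiv.subtypeProdEquivSigmaSubtype fun a b : Q => Commute a b), Nat.card_sigma,
      Finset.sum_congr rfl fun g _ => hfib g]
    have hsplit : ∀ g : Q, (if g = 1 then 12 else if g ∈ V then 4 else 3) =
        3 + ((if g ∈ V then 1 else 0) + (if g = 1 then 8 else 0)) := by
      intro g
      split_ifs with a b <;> first | omega | (exfalso; exact b (a ▸ V.one_mem))
    rw [Finset.sum_congr rfl fun g _ => hsplit g, Finset.sum_add_distrib, Finset.sum_add_distrib,
      Finset.sum_const, Finset.card_univ, ← Nat.card_eq_fintype_card, hQ, Finset.sum_boole,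
      Finset.sum_ite_eq', if_pos (Finset.mem_univ _), smul_eq_mul, ← Fintype.card_subtype,
      ← Nat.card_eq_fintype_card]
    rw [show Nat.card {g : Q // g ∈ V} = 4 from hV]
    norm_num
  rw [card_comm_eq_card_conjClasses_mul_card, hQ] at hsum
  omega

theorem degree_pattern (a b c d : ℕ) (ha : a ≠ 0) (hb : b ≠ 0) (hc : c ≠ 0) (hd : d ≠ 0)
    (h : a ^ 2 + b ^ 2 + c ^ 2 + d ^ 2 = 12) : ¬ 2 ∣ a := by
  have h1 : a ≤ 3 := by nlinarith
  have h2 : b ≤ 3 := by nlinarith
  have h3 : c ≤ 3 := by nlinarith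
  have h4 : d ≤ 3 := by nlinarith
  interval_cases a <;> interval_cases b <;> interval_cases c <;> interval_cases d <;> omega

theorem twelve_odd {Q : Type u} [Group Q] [Finite Q] (hQ : Nat.card Q = 12)
    (hk : Nat.card (ConjClasses Q) = 4) (χ : Cfsg.IrrCharacter Q) :
    ¬ 2 ∣ Cfsg.charDegree (χ : Q → ℂ) := by
  haveI := Fintype.ofFinite Q
  have hs : ∑ η : Cfsg.IrrCharacter Q, Cfsg.charDegree (η : Q → ℂ) ^ 2 = 12 := by
    have h := CfsgLib.Char.sum_apply_one_sq (G := Q)
    rw [hQ] at h
    simp only [← CfsgLib.BlockReg.deg_cast] at h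
    exact_mod_cast h
  obtain ⟨e⟩ : Nonempty (Fin 4 ≃ Cfsg.IrrCharacter Q) := by
    refine ⟨(Finite.equivFinOfCardEq ?_).symm⟩
    rw [CfsgLib.Char.card_irrCharacter, hk]
  rw [← e.sum_comp, Fin.sum_univ_four] at hs
  have hne : ∀ i, Cfsg.charDegree ((e i : Cfsg.IrrCharacter Q) : Q → ℂ) ≠ 0 :=
    fun i => (CfsgLib.BlockReg.deg_pos _).ne'
  have key : ∀ i, ¬ 2 ∣ Cfsg.charDegree ((e i : Cfsg.IrrCharacter Q) : Q → ℂ) := by
    intro i
    match i with
    | 0 => exact degree_pattern _ _ _ _ (hne 0) (hne 1) (hne 2) (hne 3) hs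
    | 1 => exact degree_pattern _ _ _ _ (hne 1) (hne 0) (hne 2) (hne 3) (by linarith)
    | 2 => exact degree_pattern _ _ _ _ (hne 2) (hne 1) (hne 0) (hne 3) (by linarith)
    | 3 => exact degree_pattern _ _ _ _ (hne 3) (hne 1) (hne 2) (hne 0) (by linarith)
  simpa using key (e.symm χ)

/-- A group of order 24 with a normal subgroup of order 8 containing its centralizer modulo a
central involution has four characters of odd degree. -/
theorem count_twentyfour {H : Type u} [Group H] [Finite H] (hH : Nat.card H = 24) (S : Subgroup H)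
    [S.Normal] (hS : Nat.card S = 8) {z : H} (hz : z ∈ Subgroup.center H) (hz1 : z ≠ 1)
    (hz2 : z * z = 1) (hzS : z ∈ S) (hzc : z ∈ commutator H)
    (hcent : ∀ x : H, (∀ s ∈ S, x * s = s * x) → x ∈ Subgroup.zpowers z) :
    Nat.card {χ : Cfsg.IrrCharacter H // ¬ 2 ∣ Cfsg.charDegree (χ : H → ℂ)} = 4 := by
  haveI := Fintype.ofFinite H
  set Z := Subgroup.zpowers z with hZ
  have hZle : Z ≤ Subgroup.center H := Subgroup.zpowers_le.2 hz
  haveI : Z.Normal := ⟨fun n hn g => by
    rw [Subgroup.mem_center_iff.1 (hZle hn) g, mul_inv_cancel_right]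
    exact hn⟩
  have hord : orderOf z = 2 := orderOf_eq_prime (by rw [pow_two, hz2]) hz1
  have hZc : Nat.card Z = 2 := by rw [hZ, Nat.card_zpowers, hord]
  have hZmem : ∀ c ∈ Z, c = 1 ∨ c = z := by
    intro c hc
    rw [hZ] at hc
    obtain ⟨k, hk⟩ := (isOfFinOrder_of_finite z).mem_powers_iff_mem_zpowers.2 hc
    simp only at hk
    rw [← hk, ← pow_mod_orderOf, hord]
    rcases Nat.mod_two_eq_zero_or_one k with e | e <;> rw [e] <;> simp
  have hZS : Z ≤ S := Subgroup.zpowers_le.2 hzS
  let π : H →* H ⧸ Z := QuotientGroup.mk' Z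
  have hπ : Function.Surjective π := QuotientGroup.mk'_surjective Z
  set V := S.map π with hVdef
  haveI : V.Normal := Subgroup.Normal.map inferInstance π hπ
  have hQ : Nat.card (H ⧸ Z) = 12 := by
    have h := Subgroup.card_mul_index Z
    rw [hH, hZc, Subgroup.index_eq_card] at h
    omega
  have hmemV : ∀ x : H, π x ∈ V ↔ x ∈ S := by
    intro x
    refine ⟨?_, fun hx => ⟨x, hx, rfl⟩⟩
    rintro ⟨s, hs, e⟩
    have hd : s⁻¹ * x ∈ Z := QuotientGroup.eq.1 e
    have := S.mul_mem hs (hZS hd)
    rwa [mul_inv_cancel_left] at this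
  have hV : Nat.card V = 4 := by
    have h1 : V.index = S.index := by
      rw [hVdef, Subgroup.index_map_eq _ hπ]
      rw [QuotientGroup.ker_mk']
      exact hZS
    have h2 := V.card_mul_index
    have h3 := S.card_mul_index
    rw [hS, hH] at h3
    rw [h1, hQ, show S.index = 3 by omega] at h2
    omega
  have hcen : ∀ v ∈ V, v ≠ 1 → ∀ w : H ⧸ Z, w * v = v * w → w ∈ V := by
    intro v hv hv1 w hw
    obtain ⟨x, rfl⟩ := hπ w
    rw [hmemV]
    by_contra hx
    set y := x ^ 8 with hy
    have hy3 : y ^ 3 = 1 := by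
      rw [hy, ← pow_mul, show 8 * 3 = Nat.card H by rw [hH], pow_card_eq_one']
    have hyS : y ∉ S := by
      intro hyS
      have hidx : S.index = 3 := by
        have h3 := S.card_mul_index
        rw [hS, hH] at h3
        omega
      have h3 : x ^ 3 ∈ S := hidx ▸ S.pow_index_mem x
      apply hx
      have := S.mul_mem (S.pow_mem h3 3) (S.inv_mem hyS)
      rwa [hy, ← pow_mul, show (3 * 3 : ℕ) = 1 + 8 from rfl, pow_add, mul_inv_cancel_right,
        pow_one] at this
    let f : H ⧸ Z → H ⧸ Z := fun u => π y * u * (π y)⁻¹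
    have hf3 : ∀ u, f (f (f u)) = u := by
      intro u
      have hyy : π y * π y * π y = 1 := by
        rw [← map_mul, ← map_mul, ← pow_two, ← pow_succ, hy3, map_one]
      calc f (f (f u)) = (π y * π y * π y) * u * (π y * π y * π y)⁻¹ := by simp only [f]; group
        _ = u := by rw [hyy]; group
    have hfv : f v = v := by
      have hcom : Commute (π y) v := by
        rw [hy, map_pow]
        exact Commute.pow_left hw 8
      show π y * v * (π y)⁻¹ = v
      rw [hcom.eq, mul_inv_cancel_right]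
    have hfinj : Function.Injective f := fun a b e => by simpa [f] using e
    have hf1 : f 1 = 1 := by simp [f]
    have hfix : ∀ u ∈ V, f u = u := by
      intro u hu
      by_contra hne
      have hu1 : u ≠ 1 := fun e => hne (e ▸ hf1)
      have huv : u ≠ v := fun e => hne (e ▸ hfv)
      have hfu1 : f u ≠ 1 := fun e => hu1 (hfinj (e.trans hf1.symm))
      have hfuv : f u ≠ v := fun e => huv (hfinj (e.trans hfv.symm))
      have hfV : ∀ a ∈ V, f a ∈ V := fun a ha => Subgroup.Normal.conj_mem inferInstance a ha _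
      have hall : ∀ a ∈ V, a = 1 ∨ a = v ∨ a = u ∨ a = f u := by
        intro a ha
        by_contra hcon
        simp only [not_or] at hcon
        obtain ⟨h1, h2, h3, h4⟩ := hcon
        have hsub : ({1, v, u, f u, a} : Finset (H ⧸ Z)) ⊆ Finset.univ.filter (fun b => b ∈ V) := by
          intro b hb
          simp only [Finset.mem_insert, Finset.mem_singleton] at hb
          refine Finset.mem_filter.2 ⟨Finset.mem_univ _, ?_⟩
          rcases hb with e | e | e | e | e <;> rw [e]
          exacts [V.one_mem, hv, hu, hfV u hu, ha]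
        have hc : ({1, v, u, f u, a} : Finset (H ⧸ Z)).card = 5 := by
          simp [hv1.symm, hu1.symm, hfu1.symm, Ne.symm h1, huv.symm, hfuv.symm, Ne.symm h2,
            Ne.symm hne, Ne.symm h3, Ne.symm h4]
        have := Finset.card_le_card hsub
        rw [hc, ← Fintype.card_subtype, ← Nat.card_eq_fintype_card] at this
        rw [show Nat.card {b : H ⧸ Z // b ∈ V} = 4 from hV] at this
        omega
      rcases hall (f (f u)) (hfV _ (hfV u hu)) with e | e | e | e
      · exact hfu1 (hfinj (e.trans hf1.symm))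
      · exact hfuv (hfinj (e.trans hfv.symm))
      · apply hne
        have := hf3 u
        rw [e] at this
        exact this
      · exact hne (hfinj e)
    apply hyS
    refine hZS (hcent y fun t ht => ?_)
    obtain ⟨c, hc, hyt⟩ : ∃ c ∈ Z, y * t * y⁻¹ = t * c := by
      refine ⟨t⁻¹ * (y * t * y⁻¹), QuotientGroup.eq.1 ?_, by group⟩
      show π t = π (y * t * y⁻¹)
      rw [map_mul, map_mul, map_inv]
      exact (hfix _ ⟨t, ht, rfl⟩).symm
    have hcc : ∀ g, g * c = c * g := fun g => Subgroup.mem_center_iff.1 (hZle hc) g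
    have hit : t * c ^ 3 = t := by
      have s1 : SemiconjBy y t (t * c) := mul_inv_eq_iff_eq_mul.1 hyt
      have sc : SemiconjBy y c c := hcc y
      have s2 := s1.mul_right sc
      have s3 := s2.mul_right sc
      have h3 := ((s3.mul_left (s2.mul_left s1)) : SemiconjBy (y * (y * y)) t (t * c * c * c)).eq
      rw [show y * (y * y) = 1 by rw [← hy3, pow_succ', pow_two], one_mul, mul_one] at h3
      rw [pow_succ, pow_two, ← mul_assoc, ← mul_assoc]
      exact h3.symm
    rw [mul_eq_left] at hit
    have hc1 : c = 1 := by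
      rcases hZmem c hc with e | e
      · exact e
      · exfalso
        rw [e, pow_succ, pow_two, hz2, one_mul] at hit
        exact hz1 hit
    rw [hc1, mul_one] at hyt
    exact mul_inv_eq_iff_eq_mul.1 hyt
  have hk := twelve_conjClasses hQ V hV hcen
  rw [← hk, ← CfsgLib.Char.card_irrCharacter]
  refine (Nat.card_congr (Equiv.ofBijective
    (fun η : Cfsg.IrrCharacter (H ⧸ Z) => (⟨⟨(η : H ⧸ Z → ℂ) ∘ π,
      CfsgLib.CharTwist.isIrrCharacter_comp η.2 π hπ⟩, by
        simpa [Cfsg.charDegree] using twelve_odd hQ hk η⟩ :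
      {χ : Cfsg.IrrCharacter H // ¬ 2 ∣ Cfsg.charDegree (χ : H → ℂ)})) ⟨?_, ?_⟩)).symm
  · intro a b e
    apply Subtype.ext
    funext q
    obtain ⟨x, rfl⟩ := hπ q
    exact congrFun (congrArg Subtype.val (congrArg Subtype.val e)) x
  · rintro ⟨χ, hχ⟩
    obtain ⟨η, hη, e⟩ := CfsgLib.CharTwist.exists_irr_quotient χ.2 Z fun c hc => by
      rcases hZmem c hc with rfl | rfl
      · rfl
      · exact apply_central_of_odd χ hz hz2 hzc hχ
    exact ⟨⟨η, hη⟩, Subtype.ext (Subtype.ext e.symm)⟩

end CfsgLib.SL2Cusp
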