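import Cfsg.Agent.Lib.SL2Deg.Counts
import Cfsg.Agent.Lib.SL2Trace.Tori
import Cfsg.Agent.Lib.Char.CentralOver
import Cfsg.Agent.Lib.Blocks.HeightZero
import Cfsg.Agent.Lib.Blocks.FongFull
import Cfsg.Agent.S0914

/-! The blocks of `SL₂(F)` in the defining characteristic, `q` odd. -/

set_option autoImplicit false

open scoped ComplexConjugate Classical

namespace CfsgLib.SL2Cusp

open Matrix CfsgLib.SL2Trace CfsgLib.SL2Borel CfsgLib.SL2Deg CfsgLib.Blocks

variable {F : Type*} [Field F] [Fintype F] [DecidableEq F]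

local notation "SL2" => Matrix.SpecialLinearGroup (Fin 2) F

variable {p : ℕ} [Fact p.Prime] [CharP F p]

theorem odd_card_of_char (hp : p ≠ 2) : Odd (Fintype.card F) := by
  obtain ⟨n, -, hn⟩ := FiniteField.card F p
  rw [hn]
  exact ((Fact.out : p.Prime).odd_of_ne_two hp).pow

theorem char_dvd_card : p ∣ Fintype.card F := by
  obtain ⟨n, -, hn⟩ := FiniteField.card F p
  exact hn ▸ dvd_pow_self _ n.pos.ne'

/-- There is one character of degree `q`; the others have degree prime to `p`. -/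
theorem degree_q_or_prime (hp : p ≠ 2) :
    ∃ St : Cfsg.IrrCharacter SL2, (St : SL2 → ℂ) 1 = (Fintype.card F : ℂ) ∧
      (St : SL2 → ℂ) (-1) = (St : SL2 → ℂ) 1 ∧
      ∀ χ : Cfsg.IrrCharacter SL2, χ ≠ St → (χ : SL2 → ℂ) 1 ≠ (Fintype.card F : ℂ) ∧
        ¬ p ∣ Cfsg.charDegree (χ : SL2 → ℂ) := by
  have hodd := odd_card_of_char (F := F) hp
  have h2 := CfsgLib.SL2Deg.two_ne_zero_of_odd hodd
  obtain ⟨j, hj⟩ := id hodd
  have h3 : 3 ≤ Fintype.card F := by
    have := Fintype.one_lt_card (α := F)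
    omega
  obtain ⟨ψ, hψ⟩ := exists_primitive (F := F)
  obtain ⟨ν, hν⟩ := FiniteField.exists_nonsquare (F := F)
    (fun e => h2 (by
      have : CharP F 2 := ringChar.of_eq e
      exact_mod_cast CharP.cast_eq_zero F 2))
  obtain ⟨P, St, A, B, C, C', D, E, -, hSt, vP, vS, vA, vB, vC, vC', vD, vE, -, -, -, hsplit⟩ :=
    odd_table hψ h2 h3 hodd hν
  have hSt1 : (St : SL2 → ℂ) 1 = (Fintype.card F : ℂ) := by
    rw [hSt, R_scalar _ (g := (1 : SL2)) (by simp) (by simp) (by simp)]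
    simp
  have hSt2 : (St : SL2 → ℂ) (-1) = (St : SL2 → ℂ) 1 := by
    rw [hSt1, hSt, R_scalar _ (g := (-1 : SL2)) (by simp) (by simp) (by simp)]
    simp [MulChar.one_apply]
  have hcase : ∀ χ : Cfsg.IrrCharacter SL2, ∃ f m n : ℕ, Vec ψ ν χ f m n ∧
      (χ ≠ St → ((f = 1 ∧ m + n = 0) ∨ (f ≤ 1 ∧ m + n = 1) ∨ (f = 0 ∧ m + n = 2) ∨
        (f = 2 ∧ m + n = 2))) := by
    intro χ
    refine mem_of_sum_split (χ := χ) (p := fun x => ∃ f m n : ℕ, Vec ψ ν x f m n ∧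
      (x ≠ St → ((f = 1 ∧ m + n = 0) ∨ (f ≤ 1 ∧ m + n = 1) ∨ (f = 0 ∧ m + n = 2) ∨
        (f = 2 ∧ m + n = 2)))) [P, St, A, B, C, C'] D E ?_
      (fun x hx => ⟨_, _, _, vD x hx, fun _ => by omega⟩)
      (fun x hx => ⟨_, _, _, vE x hx, fun _ => by omega⟩)
      (fun g => by rw [hsplit g]; simp; ring)
    intro x hx
    simp only [List.mem_cons, List.not_mem_nil, or_false] at hx
    rcases hx with rfl | rfl | rfl | rfl | rfl | rfl
    exacts [⟨_, _, _, vP, fun _ => by omega⟩, ⟨_, _, _, vS, fun h => absurd rfl h⟩,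
      ⟨_, _, _, vA, fun _ => by omega⟩, ⟨_, _, _, vB, fun _ => by omega⟩,
      ⟨_, _, _, vC, fun _ => by omega⟩, ⟨_, _, _, vC', fun _ => by omega⟩]
  refine ⟨St, hSt1, hSt2, fun χ hne => ?_⟩
  obtain ⟨f, m, n, hv, hc⟩ := hcase χ
  have hdeg := apply_one_of_vec hψ hν hv
  rw [charDegree_eq hdeg]
  set N := f + (Fintype.card F - 1) / 2 * (m + n) with hN
  have hk : (Fintype.card F - 1) / 2 = j := by omega
  have key : 2 * N = 2 ∨ 2 * N + 1 = Fintype.card F ∨ 2 * N = Fintype.card F + 1 ∨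
      N + 1 = Fintype.card F ∨ N = Fintype.card F + 1 := by
    rcases hc hne with ⟨a, b⟩ | ⟨a, b⟩ | ⟨a, b⟩ | ⟨a, b⟩ <;> rw [hN, hk, b] <;> omega
  have hp1 : ¬ p ∣ 1 := (Fact.out : p.Prime).not_dvd_one
  have hpq := char_dvd_card (F := F) (p := p)
  have hp2 : ¬ p ∣ 2 := fun h => hp ((Nat.prime_dvd_prime_iff_eq Fact.out Nat.prime_two).1 h)
  have hnd : ¬ p ∣ N := by
    intro hd
    rcases key with e | e | e | e | e
    · exact hp2 (e ▸ hd.mul_left 2)
    · exact hp1 ((Nat.dvd_add_right (hd.mul_left 2)).1 (e ▸ hpq))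
    · exact hp1 ((Nat.dvd_add_right hpq).1 (e ▸ hd.mul_left 2))
    · exact hp1 ((Nat.dvd_add_right hd).1 (e ▸ hpq))
    · exact hp1 ((Nat.dvd_add_right hpq).1 (e ▸ hd))
  refine ⟨fun e => hnd ?_, hnd⟩
  rw [hdeg] at e
  have e' : N = Fintype.card F := by exact_mod_cast e
  rw [e']
  exact hpq

theorem apply_neg_one_cases (χ : Cfsg.IrrCharacter SL2) :
    (χ : SL2 → ℂ) (-1) = (χ : SL2 → ℂ) 1 ∨ (χ : SL2 → ℂ) (-1) = -(χ : SL2 → ℂ) 1 := by
  have h := CfsgLib.CharOver.apply_mul_central χ.2 CfsgLib.SL2Deg.neg_one_mem_center (-1 : SL2)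
  rw [show (-1 : SL2) * -1 = 1 from (neg_mul_neg 1 1).trans (one_mul 1)] at h
  exact mul_self_eq_mul_self_iff.1 h.symm

/-- Two characters of degree prime to `p` with the same central sign lie in one block. -/
theorem sameBlock_of_sign (hp : p ≠ 2) {M : Ideal Cfsg.AlgInt} [M.IsMaximal]
    (hM : Cfsg.IsPModular p M) {χ η : Cfsg.IrrCharacter SL2}
    (hχ : ¬ p ∣ Cfsg.charDegree (χ : SL2 → ℂ)) (hη : ¬ p ∣ Cfsg.charDegree (η : SL2 → ℂ))
    (hsgn : (χ : SL2 → ℂ) (-1) / (χ : SL2 → ℂ) 1 = (η : SL2 → ℂ) (-1) / (η : SL2 → ℂ) 1) :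
    Cfsg.SameBlock M (χ : SL2 → ℂ) (η : SL2 → ℂ) := by
  intro g
  by_cases hreg : (g : Matrix (Fin 2) (Fin 2) F).trace ^ 2 = 4
  · have hz' := pow_char_mem_center p g hreg
    set z : SL2 := g ^ p with hz
    have hzz : z * z = 1 := mul_self_eq_one_of_mem_center hz'
    have hpodd : Odd p := (Fact.out : p.Prime).odd_of_ne_two hp
    set x := z * g with hx
    have hcz : Commute z g := (Subgroup.mem_center_iff.1 hz' g).symm
    have hzp : z ^ p = z := by
      obtain ⟨k, hk⟩ := hpodd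
      rw [hk, pow_succ, pow_mul, pow_two, hzz, one_pow, one_mul]
    have hxp : x ^ p = 1 := by rw [hx, hcz.mul_pow, hzp, ← hz, hzz]
    obtain ⟨k, -, hk⟩ := (Nat.dvd_prime_pow (Fact.out : p.Prime)).1
      (show orderOf x ∣ p ^ 1 by rw [pow_one]; exact orderOf_dvd_of_pow_eq_one hxp)
    have hgx : g = x * z := by
      rw [hx, hcz.eq, mul_assoc, hzz, mul_one]
    have hval : ∀ ξ : Cfsg.IrrCharacter SL2, ¬ p ∣ Cfsg.charDegree (ξ : SL2 → ℂ) →
        ∃ δ : ℂ, Cfsg.MemLocalIdeal M δ ∧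
          (ξ : SL2 → ℂ) g / (ξ : SL2 → ℂ) 1 =
            (ξ : SL2 → ℂ) z / (ξ : SL2 → ℂ) 1 + δ := by
      intro ξ hξ
      have hy : ¬ p ∣ orderOf z := by
        have hdvd : orderOf z ∣ 2 := orderOf_dvd_of_pow_eq_one (by rw [pow_two, hzz])
        intro h
        exact hp ((Nat.prime_dvd_prime_iff_eq Fact.out Nat.prime_two).1 (h.trans hdvd))
      have hxz : Commute x z := by
        rw [hx]
        exact (Commute.refl z).mul_left hcz.symm
      have hred := red_char_mul_eq (M := M) (Fact.out : p.Prime) hM.2.2 ξ hxz hk hy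
      rw [← memLocalIdeal_sub_iff, ← hgx] at hred
      refine ⟨((ξ : SL2 → ℂ) g - (ξ : SL2 → ℂ) z) * ((ξ : SL2 → ℂ) 1)⁻¹, ?_, by ring⟩
      rw [← CfsgLib.BlockReg.deg_cast]
      exact CfsgLib.BlockReg.memIdeal_mul_right hM hred (CfsgLib.BlockReg.memRing_inv_natCast hM hξ)
    obtain ⟨δ₁, hd₁, e₁⟩ := hval χ hχ
    obtain ⟨δ₂, hd₂, e₂⟩ := hval η hη
    have hzv : (χ : SL2 → ℂ) z / (χ : SL2 → ℂ) 1 = (η : SL2 → ℂ) z / (η : SL2 → ℂ) 1 := by
      rcases CfsgLib.SL2Deg.center_cases hz' with e | e <;> rw [e]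
      · rw [div_self (CfsgLib.BlockReg.deg_ne_zero χ), div_self (CfsgLib.BlockReg.deg_ne_zero η)]
      · exact hsgn
    rw [CfsgLib.BlockReg.centralChar_eq, CfsgLib.BlockReg.centralChar_eq, mul_div_assoc,
      mul_div_assoc, e₁, e₂, hzv, ← mul_sub,
      show ∀ a : ℂ, a + δ₁ - (a + δ₂) = δ₁ - δ₂ from fun a => by ring]
    refine CfsgLib.BlockReg.memIdeal_mul_left hM ?_ (CfsgLib.BlockReg.memIdeal_sub hM hd₁ hd₂)
    exact mem_locRing_iff.1 (natCast_mem (locRing M) _)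
  · have hcs : p ∣ CfsgLib.BlockReg.csize g := by
      have hmul := CfsgLib.BlockReg.csize_mul_card g
      rw [card_SL2_eq_mul_borel, card_borel] at hmul
      have hco : ¬ p ∣ Nat.card (Subgroup.centralizer ({g} : Set SL2)) := by
        obtain ⟨-, hs, hn⟩ := centralizer_card_cyclic g hreg
        have hpq := char_dvd_card (F := F) (p := p)
        have hp1 : ¬ p ∣ 1 := (Fact.out : p.Prime).not_dvd_one
        intro hd
        by_cases hr : ∃ u : F, u ^ 2 - (g : Matrix (Fin 2) (Fin 2) F).trace * u + 1 = 0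
        · rw [hs hr] at hd
          have hsum : Fintype.card F - 1 + 1 = Fintype.card F := Nat.sub_add_cancel Fintype.card_pos
          exact hp1 ((Nat.dvd_add_right hd).1 (by rw [hsum]; exact hpq))
        · rw [hn hr] at hd
          exact hp1 ((Nat.dvd_add_right hpq).1 hd)
      have : p ∣ Nat.card (Subgroup.centralizer ({g} : Set SL2)) * CfsgLib.BlockReg.csize g := by
        rw [hmul]
        exact dvd_mul_of_dvd_right (dvd_mul_of_dvd_right char_dvd_card _) _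
      exact ((Fact.out : p.Prime).dvd_mul.1 this).resolve_left hco
    have hmem : ∀ ξ : Cfsg.IrrCharacter SL2, ¬ p ∣ Cfsg.charDegree (ξ : SL2 → ℂ) →
        Cfsg.MemLocalIdeal M (Cfsg.centralChar (ξ : SL2 → ℂ) g) := by
      intro ξ hξ
      refine CfsgLib.BlockReg.centralChar_memIdeal hM ξ g ?_
      rw [Nat.factorization_eq_zero_of_not_dvd hξ]
      exact (Fact.out : p.Prime).factorization_pos_of_dvd (CfsgLib.BlockReg.csize_ne_zero g) hcs
    exact CfsgLib.BlockReg.memIdeal_sub hM (hmem χ hχ) (hmem η hη)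

theorem sign_eq_of_sameBlock (hp : p ≠ 2) {M : Ideal Cfsg.AlgInt}
    (hM : Cfsg.IsPModular p M) {χ η : Cfsg.IrrCharacter SL2}
    (h : Cfsg.SameBlock M (χ : SL2 → ℂ) (η : SL2 → ℂ)) :
    (χ : SL2 → ℂ) (-1) / (χ : SL2 → ℂ) 1 = (η : SL2 → ℂ) (-1) / (η : SL2 → ℂ) 1 := by
  have hc : CfsgLib.BlockReg.csize (-1 : SL2) = 1 := by
    have hmul := CfsgLib.BlockReg.csize_mul_card (-1 : SL2)
    have htop : Subgroup.centralizer ({(-1 : SL2)} : Set SL2) = ⊤ := by
      refine eq_top_iff.2 fun x _ => Subgroup.mem_centralizer_singleton_iff.2 ?_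
      exact Subgroup.mem_center_iff.1 CfsgLib.SL2Deg.neg_one_mem_center x
    rw [htop, Subgroup.card_top] at hmul
    exact (Nat.mul_eq_left Nat.card_pos.ne').1 hmul
  have key := h (-1)
  rw [CfsgLib.BlockReg.centralChar_eq, CfsgLib.BlockReg.centralChar_eq, hc, Nat.cast_one, one_mul,
    one_mul] at key
  have hn2 : ¬ Cfsg.MemLocalIdeal M ((2 : ℕ) : ℂ) := CfsgLib.BlockReg.not_memIdeal_natCast hM
    fun hd => hp ((Nat.prime_dvd_prime_iff_eq Fact.out Nat.prime_two).1 hd)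
  rcases apply_neg_one_cases χ with e | e <;> rcases apply_neg_one_cases η with e' | e' <;>
    simp only [e, e', neg_div, div_self (CfsgLib.BlockReg.deg_ne_zero χ),
      div_self (CfsgLib.BlockReg.deg_ne_zero η)] at key ⊢
  · exact absurd (by rwa [show ((2 : ℕ) : ℂ) = 1 - -1 by norm_num]) hn2
  · exact absurd (by
      rw [show ((2 : ℕ) : ℂ) = -(-1 - 1) by norm_num]
      exact CfsgLib.BlockReg.memIdeal_neg key) hn2

end CfsgLib.SL2Cusp
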