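import Cfsg.Agent.Lib.SL2Cusp.Main
import Cfsg.Agent.Lib.GL2Char.Twist
import Cfsg.Agent.Lib.CharDeep.BrauerSuzukiLarge

/-! The characters of half degree of `SL₂(F)`, `q` odd, at semisimple elements. -/

set_option autoImplicit false

open scoped ComplexConjugate Classical

namespace CfsgLib.SL2Cusp

open Matrix CfsgLib.SL2Trace CfsgLib.SL2Borel CfsgLib.SL2Deg

variable {F : Type*} [Field F] [Fintype F] [DecidableEq F]

local notation "SL2" => Matrix.SpecialLinearGroup (Fin 2) F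

theorem twist_apply_eq {ν : Fˣ} {g : SL2} (hreg : (g : Matrix (Fin 2) (Fin 2) F).trace ^ 2 ≠ 4)
    {χ : SL2 → ℂ} (hχ : Cfsg.IsClassFunction SL2 χ) :
    χ (CfsgLib.GL2Char.twist ν g) = χ g := by
  obtain ⟨U, hU⟩ := isConj_of_trace_eq g (CfsgLib.GL2Char.twist ν g) hreg (by
    rw [CfsgLib.GL2Char.coe_twist, Matrix.trace_fin_two, Matrix.trace_fin_two]
    simp)
  rw [hU, hχ g U]

variable {C : Subgroup (Matrix.SpecialLinearGroup (Fin 2) F)}

theorem coef_cusp (h : NSTorus C) {ψ : AddChar F ℂ} (hψ : ψ.IsPrimitive) (θ : C →* ℂˣ)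
    (α : MulChar F ℂ) (t : F) : coef ψ t (cusp C θ α) = if t = 0 then 0 else 1 := by
  have hu : ∀ b : F, (u b : SL2) = (bMk 1 b : SL2) := fun b => by
    apply Subtype.ext
    rw [coe_u, bMk_coe]
    simp
  have hv : ∀ b : F, cusp C θ α (u b : SL2) =
      -1 + if b = 0 then (Fintype.card F : ℂ) else 0 := by
    intro b
    split_ifs with hb
    · rw [hb, u_zero, cusp_one θ α h]
      ring
    · rw [hu, cusp_bMk_unipotent θ α h 1 (by simp) hb, Units.val_one, MulChar.map_one, add_zero]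
  have hsum : ∑ b : F, conj (ψ (t * b)) = if t = 0 then (Fintype.card F : ℂ) else 0 := by
    rw [← map_sum]
    split_ifs with ht
    · subst ht
      simp
    · rw [Fintype.sum_equiv (Equiv.mulLeft₀ t ht) (fun b => ψ (t * b)) (fun b => ψ b) (fun _ => rfl),
        AddChar.sum_eq_zero_iff_ne_zero.2 ?_, map_zero]
      intro e
      have := hψ one_ne_zero
      rw [AddChar.mulShift_one] at this
      exact this (by rw [e]; rfl)
  have hq : (Fintype.card F : ℂ) ≠ 0 := Nat.cast_ne_zero.2 Fintype.card_ne_zero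
  unfold coef
  simp only [hv, add_mul, Finset.sum_add_distrib, neg_one_mul, Finset.sum_neg_distrib, ite_mul,
    zero_mul, Finset.sum_ite_eq', Finset.mem_univ, if_true, mul_zero, AddChar.map_zero_eq_one,
    map_one, mul_one, hsum]
  split_ifs <;> field_simp <;> ring

theorem quadratic_theta (h : NSTorus C) : ∃ θ : C →* ℂˣ, (∃ c, θ c ≠ 1) ∧
    (∑ c : C, (θ c : ℂ) * θ c = (Fintype.card F : ℂ) + 1) ∧
    ∀ c : C, (c ^ ((Fintype.card F + 1) / 2) = 1 → (θ c : ℂ) = 1) ∧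
      (c ^ ((Fintype.card F + 1) / 2) ≠ 1 → (θ c : ℂ) = -1) := by
  obtain ⟨g, hg, ho, -⟩ := regular_generator h
  obtain ⟨j, hj⟩ := h.odd
  obtain ⟨θ, hθg⟩ : ∃ θ : C →* ℂˣ, θ g = -1 :=
    ⟨monoidHomOfForallMemZpowers hg (g' := (-1 : ℂˣ)) (by
      rw [ho]
      exact (orderOf_dvd_of_pow_eq_one (n := 2) (by simp)).trans ⟨j + 1, by omega⟩),
      monoidHomOfForallMemZpowers_apply_gen _ _⟩
  have key : ∀ c : C, ∃ n : ℕ, c = g ^ n ∧ (θ c : ℂ) = (-1) ^ n := by
    intro c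
    obtain ⟨n, hn⟩ := (isOfFinOrder_of_finite g).mem_powers_iff_mem_zpowers.2 (hg c)
    simp only at hn
    refine ⟨n, hn.symm, ?_⟩
    rw [← hn, map_pow, hθg]
    simp
  refine ⟨θ, ⟨g, ?_⟩, ?_, fun c => ?_⟩
  · rw [hθg]
    intro e
    have e' := congrArg Units.val e
    simp only [Units.val_neg, Units.val_one] at e'
    norm_num at e'
  · have h1 : ∀ c : C, (θ c : ℂ) * θ c = 1 := fun c => by
      obtain ⟨n, -, hn⟩ := key c
      rw [hn, ← mul_pow]
      simp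
    rw [Finset.sum_congr rfl fun c _ => h1 c, Finset.sum_const, Finset.card_univ, nsmul_eq_mul,
      mul_one, ← Nat.card_eq_fintype_card, h.card, Nat.cast_add, Nat.cast_one]
  · obtain ⟨n, rfl, hn⟩ := key c
    rw [hn]
    have hiff : (g ^ n) ^ ((Fintype.card F + 1) / 2) = 1 ↔ Even n := by
      rw [← pow_mul, ← orderOf_dvd_iff_pow_eq_one, ho,
        show (Fintype.card F + 1) / 2 = j + 1 by omega,
        show Fintype.card F + 1 = 2 * (j + 1) by omega,
        Nat.mul_dvd_mul_iff_right (Nat.succ_pos j), even_iff_two_dvd]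
    exact ⟨fun e => (hiff.1 e).neg_one_pow,
      fun e => (Nat.not_even_iff_odd.1 fun e' => e (hiff.2 e')).neg_one_pow⟩

/-- The quadratic cuspidal function is the sum of two irreducible characters of half degree. -/
theorem cusp_split (h : NSTorus C) (h5 : 5 ≤ Fintype.card F) {θ : C →* ℂˣ}
    (hθ : ∃ c, θ c ≠ 1) (hS : ∑ c : C, (θ c : ℂ) * θ c = (Fintype.card F : ℂ) + 1)
    {α : MulChar F ℂ} (hα : α (-1) = (θ ⟨-1, h.neg_one_mem⟩ : ℂ)) {ψ : AddChar F ℂ}
    (hψ : ψ.IsPrimitive) {ν : F} (hν : ¬ IsSquare ν) :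
    ∃ X Y : Cfsg.IrrCharacter SL2, X ≠ Y ∧ cusp C θ α = (X : SL2 → ℂ) + (Y : SL2 → ℂ) ∧
      mult ψ 0 X = 0 ∧ mult ψ 1 X + mult ψ ν X = 1 ∧
      (X : SL2 → ℂ) 1 = (((Fintype.card F - 1) / 2 : ℕ) : ℂ) ∧
      (Y : SL2 → ℂ) 1 = (((Fintype.card F - 1) / 2 : ℕ) : ℂ) := by
  have hν0 : ν ≠ 0 := fun e => hν (by rw [e]; exact IsSquare.zero)
  have hn := classInner_cusp_self θ α h hα
  rw [hS, div_self (Nat.cast_add_one_ne_zero _), one_add_one_eq_two] at hn
  obtain ⟨X, Y, s, t, hXY, hs, ht, hsum⟩ :=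
    CfsgLib.CharDeep.Quat.exists_norm_two (isGeneralizedCharacter_cusp θ α) hn
  obtain ⟨P, St, A, B, C₀, C₁, D, E, -, -, vP, vS, vA, vB, vC, vC', vD, vE, -, -, -, hsplit⟩ :=
    odd_table hψ h.two_ne_zero (by omega) h.odd hν
  have htype : ∀ Z : Cfsg.IrrCharacter SL2, ∃ f m n : ℕ, Vec ψ ν Z f m n ∧
      m ≤ 1 ∧ n ≤ 1 ∧ (m + n = 0 → f = 1) := by
    intro Z
    refine mem_of_sum_split (χ := Z) (p := fun x => ∃ f m n : ℕ, Vec ψ ν x f m n ∧
      m ≤ 1 ∧ n ≤ 1 ∧ (m + n = 0 → f = 1)) [P, St, A, B, C₀, C₁] D E ?_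
      (fun x hx => ⟨_, _, _, vD x hx, le_rfl, le_rfl, by omega⟩)
      (fun x hx => ⟨_, _, _, vE x hx, le_rfl, le_rfl, by omega⟩)
      (fun g => by rw [hsplit g]; simp; ring)
    intro x hx
    simp only [List.mem_cons, List.not_mem_nil, or_false] at hx
    rcases hx with rfl | rfl | rfl | rfl | rfl | rfl
    exacts [⟨_, _, _, vP, by omega⟩, ⟨_, _, _, vS, by omega⟩, ⟨_, _, _, vA, by omega⟩,
      ⟨_, _, _, vB, by omega⟩, ⟨_, _, _, vC, by omega⟩, ⟨_, _, _, vC', by omega⟩]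
  have hcoef : ∀ x : F, (if x = 0 then (0 : ℂ) else 1) =
      (s : ℂ) * (mult ψ x X : ℂ) + (t : ℂ) * (mult ψ x Y : ℂ) := by
    intro x
    rw [← coef_cusp h hψ θ α x, ← mult_spec, ← mult_spec, hsum]
    simp only [coef, Pi.add_apply, Pi.smul_apply, smul_eq_mul, add_mul, Finset.sum_add_distrib,
      mul_assoc, ← Finset.mul_sum]
    ring
  obtain ⟨fX, mX, nX, hvX, hX1, hX2, hX3⟩ := htype X
  obtain ⟨fY, mY, nY, hvY, hY1, hY2, hY3⟩ := htype Y
  have e0 : (0 : ℤ) = s * (fX : ℤ) + t * (fY : ℤ) := by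
    have e := hcoef 0
    rw [if_pos rfl, hvX.1, hvY.1] at e
    exact_mod_cast e
  have e1 : (1 : ℤ) = s * (mX : ℤ) + t * (mY : ℤ) := by
    have e := hcoef 1
    rw [if_neg one_ne_zero, hvX.2.1, hvY.2.1] at e
    exact_mod_cast e
  have eν : (1 : ℤ) = s * (nX : ℤ) + t * (nY : ℤ) := by
    have e := hcoef ν
    rw [if_neg hν0, hvX.2.2, hvY.2.2] at e
    exact_mod_cast e
  have h4 : 4 ≤ Fintype.card F := by omega
  have hzero := classInner_cusp_one θ α h hθ
  rw [hsum, CfsgLib.Char.classInner_add_left, CfsgLib.Char.classInner_smul_left,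
    CfsgLib.Char.classInner_smul_left] at hzero
  have hprin : ∀ {Z Z' : Cfsg.IrrCharacter SL2} {f m n : ℕ}, Z ≠ Z' → Vec ψ ν Z f m n →
      f = 1 → m + n = 0 →
      Cfsg.classInner (Z : SL2 → ℂ) (fun _ => 1) = 1 ∧
      Cfsg.classInner (Z' : SL2 → ℂ) (fun _ => 1) = 0 := by
    intro Z Z' f m n hne hv hf hmn
    have e := apply_one_of_vec hψ hν hv
    rw [hf, hmn, mul_zero, add_zero, Nat.cast_one] at e
    have e' := eq_one_of_degree_one h4 Z.2 e
    refine ⟨by rw [← e']; exact CfsgLib.Char.classInner_irr_self Z.2, ?_⟩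
    rw [← e']
    exact CfsgLib.Char.classInner_irr_of_ne Z'.2 Z.2 fun e'' => hne (Subtype.ext e'').symm
  rcases hs with rfl | rfl <;> rcases ht with rfl | rfl
  · refine ⟨X, Y, hXY, by simpa using hsum, by rw [hvX.1]; omega, by rw [hvX.2.1, hvX.2.2]; omega,
      ?_, ?_⟩
    · rw [apply_one_of_vec hψ hν hvX, show fX = 0 by omega, show mX + nX = 1 by omega]
      simp
    · rw [apply_one_of_vec hψ hν hvY, show fY = 0 by omega, show mY + nY = 1 by omega]
      simp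
  · exfalso
    obtain ⟨ea, eb⟩ := hprin hXY.symm hvY (by omega) (by omega)
    rw [ea, eb] at hzero
    norm_num at hzero
  · exfalso
    obtain ⟨ea, eb⟩ := hprin hXY hvX (by omega) (by omega)
    rw [ea, eb] at hzero
    norm_num at hzero
  · exfalso; omega

/-- The values of the characters of degree `(q - 1) / 2` at a non-split torus element. -/
theorem half_minus_value (hodd : Odd (Fintype.card F)) (h5 : 5 ≤ Fintype.card F) {χ : SL2 → ℂ}
    (hχ : Cfsg.IsIrrCharacter SL2 χ) (h1 : χ 1 = (((Fintype.card F - 1) / 2 : ℕ) : ℂ)) {g : SL2}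
    (hg : ∀ (c : F) (v : Fin 2 → F), v ≠ 0 → (g : Matrix (Fin 2) (Fin 2) F).mulVec v ≠ c • v) :
    (g ^ ((Fintype.card F + 1) / 2) = 1 → χ g = -1) ∧
      (g ^ ((Fintype.card F + 1) / 2) ≠ 1 → χ g = 1) := by
  obtain ⟨h, hgz⟩ := nsTorus_centralizer hodd hg
  let gC : Subgroup.centralizer ({g} : Set SL2) :=
    ⟨g, Subgroup.mem_centralizer_singleton_iff.2 rfl⟩
  obtain ⟨θ, hθ, hS, hval⟩ := quadratic_theta h
  obtain ⟨α, hα⟩ := exists_parity_theta h θ
  obtain ⟨ψ, hψ⟩ := exists_primitive (F := F)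
  obtain ⟨ν, hν⟩ := FiniteField.exists_nonsquare (F := F)
    (fun e => h.two_ne_zero (by
      have : CharP F 2 := ringChar.of_eq e
      exact_mod_cast CharP.cast_eq_zero F 2))
  have hν0 : ν ≠ 0 := fun e => hν (by rw [e]; exact IsSquare.zero)
  obtain ⟨X, Y, hXY, hsum, hX0, hX1, hdX, hdY⟩ := cusp_split h h5 hθ hS hα hψ hν
  obtain ⟨j, hj⟩ := hodd
  have hcard : Nat.card {Z : Cfsg.IrrCharacter SL2 //
      (Z : SL2 → ℂ) 1 = (((Fintype.card F - 1) / 2 : ℕ) : ℂ)} = 2 := by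
    rw [(odd_counts h.odd h5).1]
    split_ifs <;> omega
  have hmem : ∀ Z : Cfsg.IrrCharacter SL2,
      (Z : SL2 → ℂ) 1 = (((Fintype.card F - 1) / 2 : ℕ) : ℂ) → Z = X ∨ Z = Y := by
    intro Z hZ
    by_contra hne
    simp only [not_or] at hne
    have hle : Fintype.card ({X, Y, Z} : Finset (Cfsg.IrrCharacter SL2)) ≤ 2 := by
      rw [← Nat.card_eq_fintype_card]
      refine le_of_le_of_eq (Nat.card_le_card_of_injective
        (β := {Z : Cfsg.IrrCharacter SL2 //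
          (Z : SL2 → ℂ) 1 = (((Fintype.card F - 1) / 2 : ℕ) : ℂ)})
        (fun W => ⟨W.1, ?_⟩) fun a b e => Subtype.ext (congrArg Subtype.val e :)) hcard
      have := W.2
      simp only [Finset.mem_insert, Finset.mem_singleton] at this
      rcases this with e | e | e <;> rw [e]
      exacts [hdX, hdY, hZ]
    rw [Fintype.card_coe, Finset.card_insert_of_notMem (by simp [hXY, Ne.symm hne.1]),
      Finset.card_pair (Ne.symm hne.2)] at hle
    omega
  let X' : Cfsg.IrrCharacter SL2 := ⟨(X : SL2 → ℂ) ∘ CfsgLib.GL2Char.twist (Units.mk0 ν hν0),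
    CfsgLib.CharTwist.isIrrCharacter_comp_equiv X.2 _⟩
  have hX' : X' = Y := by
    refine (hmem X' (by simpa [X'] using hdX)).resolve_left fun e => ?_
    have h' : mult ψ ν X = mult ψ 1 X := by
      refine mult_eq_of ?_
      rw [← mult_spec]
      conv_lhs => rw [← congrArg Subtype.val e, ← mul_one ν]
      exact CfsgLib.GL2Char.coef_twist (Units.mk0 ν hν0) 1 _
    omega
  have hreg : (g : Matrix (Fin 2) (Fin 2) F).trace ^ 2 ≠ 4 :=
    h.regular (c := g) gC.2 hgz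
  have hYX : (Y : SL2 → ℂ) g = (X : SL2 → ℂ) g := by
    rw [← hX']
    exact twist_apply_eq hreg (CfsgLib.Char.IsIrrCharacter.isClassFunction X.2)
  have hv := cusp_noncentral θ α h (c := gC) hgz
  rw [hsum, Pi.add_apply] at hv
  change (X : SL2 → ℂ) g + (Y : SL2 → ℂ) g = _ at hv
  have hχg : χ g = (X : SL2 → ℂ) g := by
    rcases hmem ⟨χ, hχ⟩ h1 with e | e
    · exact congrFun (congrArg Subtype.val e) g
    · exact (congrFun (congrArg Subtype.val e) g).trans hYX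
  have hpow : gC ^ ((Fintype.card F + 1) / 2) = 1 ↔ g ^ ((Fintype.card F + 1) / 2) = 1 := by
    rw [Subtype.ext_iff]
    rfl
  refine ⟨fun e => ?_, fun e => ?_⟩
  · rw [hχg]
    rw [hYX, Units.val_inv_eq_inv_val, (hval gC).1 (hpow.2 e)] at hv
    linear_combination hv / 2
  · rw [hχg]
    rw [hYX, Units.val_inv_eq_inv_val, (hval gC).2 (mt hpow.1 e)] at hv
    linear_combination hv / 2

/-- The values of the characters of degree `(q + 1) / 2` at a split torus element. -/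
theorem half_plus_value (hodd : Odd (Fintype.card F)) (h5 : 5 ≤ Fintype.card F) {χ : SL2 → ℂ}
    (hχ : Cfsg.IsIrrCharacter SL2 χ) (h1 : χ 1 = (((Fintype.card F + 1) / 2 : ℕ) : ℂ)) {g : SL2}
    (h01 : (g : Matrix (Fin 2) (Fin 2) F) 0 1 = 0) (h10 : (g : Matrix (Fin 2) (Fin 2) F) 1 0 = 0)
    (h00 : (g : Matrix (Fin 2) (Fin 2) F) 0 0 ^ 2 ≠ 1) :
    χ g = (quadraticChar F ((g : Matrix (Fin 2) (Fin 2) F) 0 0) : ℂ) := by
  have h2 := CfsgLib.SL2Deg.two_ne_zero_of_odd hodd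
  let η : MulChar F ℂ := (quadraticChar F).ringHomComp (Int.castRingHom ℂ)
  have hη : η⁻¹ = η := ((quadraticChar_isQuadratic F).comp _).inv
  have hη1 : η ≠ 1 := by
    rw [MulChar.ringHomComp_ne_one_iff Int.cast_injective]
    exact quadraticChar_ne_one (fun e => h2 (by
      have : CharP F 2 := ringChar.of_eq e
      exact_mod_cast CharP.cast_eq_zero F 2))
  obtain ⟨A, B, ν, hAB, hsum, hBA, hdA, hdB⟩ := CfsgLib.GL2Char.quadratic_split hodd hη hη1
  have hd := det_coe g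
  rw [h01, h10, mul_zero, sub_zero] at hd
  have hne : (g : Matrix (Fin 2) (Fin 2) F) 0 0 ≠ (g : Matrix (Fin 2) (Fin 2) F) 1 1 := fun e =>
    h00 (by rw [pow_two]; nth_rewrite 2 [e]; exact hd)
  have htw : CfsgLib.GL2Char.twist ν g = g := by
    apply Subtype.ext
    rw [CfsgLib.GL2Char.coe_twist]
    ext i j
    fin_cases i <;> fin_cases j <;> simp [h01, h10]
  have hAB' : (B : SL2 → ℂ) g = (A : SL2 → ℂ) g := by
    have e := hBA g
    rwa [htw] at e
  have hR := R_diag η h01 h10 hne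
  rw [hsum, Pi.add_apply, hAB'] at hR
  have hinv : η ((g : Matrix (Fin 2) (Fin 2) F) 1 1) = η ((g : Matrix (Fin 2) (Fin 2) F) 0 0) := by
    conv_rhs => rw [← hη, MulChar.inv_apply', inv_eq_of_mul_eq_one_right hd]
  rw [hinv] at hR
  obtain ⟨j, hj⟩ := hodd
  have hcard : Nat.card {Z : Cfsg.IrrCharacter SL2 //
      (Z : SL2 → ℂ) 1 = (((Fintype.card F + 1) / 2 : ℕ) : ℂ)} = 2 := by
    rw [(odd_counts ⟨j, hj⟩ h5).1]
    split_ifs <;> omega
  have hmem : χ = (A : SL2 → ℂ) ∨ χ = (B : SL2 → ℂ) := by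
    obtain ⟨a, b, hab, huniv⟩ := Nat.card_eq_two_iff.1 hcard
    have hall : ∀ Z, Z = a ∨ Z = b := fun Z => by
      have : Z ∈ ({a, b} : Set _) := huniv ▸ Set.mem_univ Z
      simpa using this
    have hne' : (⟨A, hdA⟩ : {Z : Cfsg.IrrCharacter SL2 //
        (Z : SL2 → ℂ) 1 = (((Fintype.card F + 1) / 2 : ℕ) : ℂ)}) ≠ ⟨B, hdB⟩ :=
      fun e => hAB (congrArg Subtype.val e)
    rcases hall ⟨⟨χ, hχ⟩, h1⟩ with e | e <;> rcases hall ⟨A, hdA⟩ with eA | eA <;>
      rcases hall ⟨B, hdB⟩ with eB | eB <;>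
      first
        | exact absurd (eA.trans eB.symm) hne'
        | exact Or.inl (congrArg (fun x => x.1.1) (e.trans eA.symm))
        | exact Or.inr (congrArg (fun x => x.1.1) (e.trans eB.symm))
  have hv : χ g = η ((g : Matrix (Fin 2) (Fin 2) F) 0 0) := by
    rcases hmem with e | e <;> rw [e]
    · linear_combination hR / 2
    · rw [hAB']
      linear_combination hR / 2
  rw [hv]
  rfl

end CfsgLib.SL2Cusp
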