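import Cfsg.Agent.Lib.SL2Cusp.Pi
import Cfsg.Agent.Lib.SL2Deg.Counts
import Cfsg.Agent.Lib.OddChar.Virt
import Cfsg.Agent.Lib.Char.CentralOver
import Mathlib.RingTheory.RootsOfUnity.Complex

/-! The cuspidal irreducible characters of degree `q - 1` of `SL₂(F)`, `q` odd. -/

set_option autoImplicit false

open scoped ComplexConjugate Classical

namespace CfsgLib.SL2Cusp

open Matrix CfsgLib.SL2Trace CfsgLib.SL2Borel CfsgLib.SL2Deg

variable {F : Type*} [Field F] [Fintype F] [DecidableEq F]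

local notation "SL2" => Matrix.SpecialLinearGroup (Fin 2) F

variable {C : Subgroup (Matrix.SpecialLinearGroup (Fin 2) F)}

theorem exists_parity_theta (h : NSTorus C) (θ : C →* ℂˣ) :
    ∃ α : MulChar F ℂ, α (-1) = (θ ⟨-1, h.neg_one_mem⟩ : ℂ) :=
  exists_parity h.odd _ (theta_mul_self θ rfl)

theorem cusp_irreducible (h : NSTorus C) {θ : C →* ℂˣ} (hθ : ∃ c, θ c ^ 2 ≠ 1)
    {α : MulChar F ℂ} (hα : α (-1) = (θ ⟨-1, h.neg_one_mem⟩ : ℂ)) :
    Cfsg.IsIrrCharacter SL2 (cusp C θ α) := by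
  have hn := classInner_cusp_self θ α h hα
  rw [sum_sq_eq_zero hθ, zero_div, add_zero] at hn
  rcases CfsgLib.OddChar.irr_or_neg_of_norm_one (isGeneralizedCharacter_cusp θ α) hn with hi | hi
  · exact hi
  · exfalso
    obtain ⟨d, hd, hd1⟩ := CfsgLib.Char.IsIrrCharacter.exists_degree hi
    rw [Pi.neg_apply, cusp_one θ α h] at hd1
    have h0 : ((Fintype.card F + d : ℕ) : ℂ) = 1 := by
      push_cast
      linear_combination -hd1
    have := Fintype.one_lt_card (α := F)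
    have : Fintype.card F + d = 1 := by exact_mod_cast h0
    omega

/-- The values of a cuspidal character. -/
theorem cusp_values (h : NSTorus C) {θ : C →* ℂˣ} (hθ : ∃ c, θ c ^ 2 ≠ 1)
    {α : MulChar F ℂ} (hα : α (-1) = (θ ⟨-1, h.neg_one_mem⟩ : ℂ)) :
    (∀ c : C, (c : SL2) ∈ Subgroup.center SL2 → ∀ g : SL2,
        cusp C θ α ((c : SL2) * g) = (θ c).val * cusp C θ α g) ∧
      (∀ g : SL2, (g : Matrix (Fin 2) (Fin 2) F) 0 1 = 0 → (g : Matrix (Fin 2) (Fin 2) F) 1 0 = 0 →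
        (g : Matrix (Fin 2) (Fin 2) F) 0 0 ^ 2 ≠ 1 → cusp C θ α g = 0) ∧
      (∀ g : SL2, (g : Matrix (Fin 2) (Fin 2) F) 1 0 = 0 →
        (g : Matrix (Fin 2) (Fin 2) F) 0 0 = 1 → (g : Matrix (Fin 2) (Fin 2) F) 1 1 = 1 →
        (g : Matrix (Fin 2) (Fin 2) F) 0 1 ≠ 0 → cusp C θ α g = -1) := by
  refine ⟨fun c hc g => ?_, fun g h01 h10 h00 => ?_, fun g h10 h00 h11 h01 => ?_⟩
  · have hne : cusp C θ α 1 ≠ 0 := by
      rw [cusp_one θ α h, sub_ne_zero]
      exact_mod_cast (Fintype.one_lt_card (α := F)).ne'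
    have hcv : cusp C θ α (c : SL2) = cusp C θ α 1 * (θ c).val := by
      rcases CfsgLib.SL2Deg.center_cases hc with e | e
      · rw [e, show c = 1 from Subtype.ext e, map_one, Units.val_one, mul_one]
      · rw [e, show c = ⟨-1, h.neg_one_mem⟩ from Subtype.ext e, cusp_neg_one θ α h hα,
          cusp_one θ α h, hα]
    have hm := CfsgLib.CharOver.apply_mul_central (cusp_irreducible h hθ hα) hc g
    rw [hcv, ← Subgroup.mem_center_iff.1 hc g] at *
    exact mul_right_cancel₀ hne (by rw [hm]; ring)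
  · have hd := det_coe g
    rw [h01, h10, mul_zero, sub_zero] at hd
    let a : Fˣ := ⟨(g : Matrix (Fin 2) (Fin 2) F) 0 0, (g : Matrix (Fin 2) (Fin 2) F) 1 1, hd,
      by rw [mul_comm]; exact hd⟩
    have e : g = (bMk a 0 : SL2) := by
      apply Subtype.ext
      rw [bMk_coe]
      ext i j
      fin_cases i <;> fin_cases j <;> simp [a, h01, h10]
    rw [e, cusp_bMk_regular θ α h a (by rw [← pow_two]; exact h00) 0]
  · have e : g = (bMk 1 ((g : Matrix (Fin 2) (Fin 2) F) 0 1) : SL2) := by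
      apply Subtype.ext
      rw [bMk_coe]
      ext i j
      fin_cases i <;> fin_cases j <;> simp [h10, h00, h11]
    rw [e, cusp_bMk_unipotent θ α h 1 (by simp) h01, Units.val_one, MulChar.map_one]

theorem regular_generator (h : NSTorus C) : ∃ g : C, (∀ x, x ∈ Subgroup.zpowers g) ∧
    orderOf g = Fintype.card F + 1 ∧ (g : SL2) ∉ Subgroup.center SL2 := by
  obtain ⟨g, hg⟩ := h.cyclic.exists_generator
  have ho : orderOf g = Fintype.card F + 1 := by
    rw [orderOf_eq_card_of_forall_mem_zpowers hg, h.card]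
  refine ⟨g, hg, ho, fun hz => ?_⟩
  have h2 : g ^ 2 = 1 := Subtype.ext (by
    rw [Subgroup.coe_pow, pow_two, Subgroup.coe_one]
    exact mul_self_eq_one_of_mem_center hz)
  have := orderOf_le_of_pow_eq_one (by norm_num) h2
  have := Fintype.one_lt_card (α := F)
  omega

theorem exists_theta (h : NSTorus C) {g : C} (hg : ∀ x, x ∈ Subgroup.zpowers g)
    (ho : orderOf g = Fintype.card F + 1) (k : ℕ) :
    ∃ θ : C →* ℂˣ, (θ g : ℂ) =
      (Complex.exp (2 * Real.pi * Complex.I / (Fintype.card F + 1 : ℕ))) ^ k := by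
  have hζ := Complex.isPrimitiveRoot_exp (Fintype.card F + 1) (Nat.succ_ne_zero _)
  let u : ℂˣ := (hζ.isUnit (Nat.succ_ne_zero _)).unit
  have hu : (u : ℂ) = Complex.exp (2 * Real.pi * Complex.I / (Fintype.card F + 1 : ℕ)) :=
    IsUnit.unit_spec _
  have hpow : (u ^ k) ^ (Fintype.card F + 1) = 1 := by
    apply Units.ext
    rw [Units.val_pow_eq_pow_val, Units.val_pow_eq_pow_val, hu, ← pow_mul, mul_comm k, pow_mul,
      hζ.pow_eq_one, one_pow, Units.val_one]
  refine ⟨monoidHomOfForallMemZpowers hg (g' := u ^ k)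
    (by rw [ho]; exact orderOf_dvd_of_pow_eq_one hpow), ?_⟩
  rw [monoidHomOfForallMemZpowers_apply_gen, Units.val_pow_eq_pow_val, hu]

theorem eq_zero_of_three (h : NSTorus C) (h3 : Fintype.card F = 3) {χ : SL2 → ℂ}
    (hχ : Cfsg.IsIrrCharacter SL2 χ) (h1 : χ 1 = 2) {c : SL2} (hc : c ∈ C)
    (hz : c ∉ Subgroup.center SL2) : χ c = 0 := by
  obtain ⟨ψ, hψ⟩ := exists_primitive (F := F)
  obtain ⟨ν, hν⟩ := FiniteField.exists_nonsquare (F := F)
    (fun e => h.two_ne_zero (by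
      have : CharP F 2 := ringChar.of_eq e
      exact_mod_cast CharP.cast_eq_zero F 2))
  obtain ⟨P, St, A, B, C₀, C₁, D, E, hP, hSt, vP, vSt, -, -, vC, vC', -, -, -, -, -, -⟩ :=
    odd_table hψ h.two_ne_zero (by omega) h.odd hν
  obtain ⟨hC, hno⟩ := h.centralizer hc hz
  let X : Cfsg.IrrCharacter SL2 := ⟨χ, hχ⟩
  have hcol := CfsgLib.SL2Deg.sum_col (G := SL2) c c
  have hcard : Nat.card {x : SL2 // x * c = c * x} = 4 := by
    rw [show Nat.card {x : SL2 // x * c = c * x} =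
        Nat.card (Subgroup.centralizer ({c} : Set SL2)) from
      Nat.card_congr (Equiv.subtypeEquivRight fun x =>
        (Subgroup.mem_centralizer_singleton_iff).symm), ← hC, h.card, h3]
  rw [hcard] at hcol
  have hre : ∑ ξ : Cfsg.IrrCharacter SL2, Complex.normSq ((ξ : SL2 → ℂ) c) = 4 := by
    have hcol' : ∑ ξ : Cfsg.IrrCharacter SL2, ((Complex.normSq ((ξ : SL2 → ℂ) c) : ℝ) : ℂ) =
        ((4 : ℕ) : ℂ) := by
      rw [← hcol]
      exact Finset.sum_congr rfl fun ξ _ => (Complex.mul_conj _).symm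
    exact_mod_cast hcol'
  have hlin : ∀ ξ : Cfsg.IrrCharacter SL2, (ξ : SL2 → ℂ) 1 = 1 →
      Complex.normSq ((ξ : SL2 → ℂ) c) = 1 := by
    intro ξ hξ
    obtain ⟨f, hf⟩ := CfsgLib.Char.isIrrCharacter_degree_one_iff.1 ⟨ξ.2, hξ⟩
    have hc' : (ξ : SL2 → ℂ) c⁻¹ = conj ((ξ : SL2 → ℂ) c) :=
      CfsgLib.Char.IsIrrCharacter.apply_inv ξ.2 c
    have h' : (ξ : SL2 → ℂ) c * (ξ : SL2 → ℂ) c⁻¹ = 1 := by
      rw [hf]
      simp only [map_inv]
      exact (f c).mul_inv
    rw [hc', Complex.mul_conj] at h'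
    exact_mod_cast h'
  have hdeg : ∀ {ξ : Cfsg.IrrCharacter SL2} {f m n : ℕ}, Vec ψ ν ξ f m n →
      (ξ : SL2 → ℂ) 1 = ((f + (m + n) : ℕ) : ℂ) := by
    intro ξ f m n hv
    rw [apply_one_of_vec hψ hν hv, h3]
    norm_num
  have hne : ∀ {x y : Cfsg.IrrCharacter SL2} {f m n f' m' n' : ℕ}, Vec ψ ν x f m n →
      Vec ψ ν y f' m' n' → ¬ (f = f' ∧ m = m' ∧ n = n') → x ≠ y := by
    rintro x y f m n f' m' n' ⟨a, b, c⟩ ⟨a', b', c'⟩ hd rfl
    exact hd ⟨a.symm.trans a', b.symm.trans b', c.symm.trans c'⟩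
  have hXne : ∀ {ξ : Cfsg.IrrCharacter SL2} {f m n : ℕ}, Vec ψ ν ξ f m n → f + (m + n) ≠ 2 →
      X ≠ ξ := by
    intro ξ f m n hv hne e
    apply hne
    have h' := hdeg hv
    rw [← e] at h'
    change χ 1 = _ at h'
    rw [h1] at h'
    exact_mod_cast h'.symm
  have hStc : Complex.normSq ((St : SL2 → ℂ) c) = 1 := by
    rw [hSt, R_noEigen _ (noEigen_of_no_root hno)]
    simp
  have hsub := Finset.sum_le_sum_of_subset_of_nonneg
    (f := fun ξ : Cfsg.IrrCharacter SL2 => Complex.normSq ((ξ : SL2 → ℂ) c))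
    (Finset.subset_univ ({X, P, St, C₀, C₁} : Finset (Cfsg.IrrCharacter SL2)))
    (fun _ _ _ => Complex.normSq_nonneg _)
  rw [hre, Finset.sum_insert, Finset.sum_insert, Finset.sum_insert, Finset.sum_insert,
    Finset.sum_singleton, hlin P (by simpa using hdeg vP), hStc,
    hlin C₀ (by simpa using hdeg vC), hlin C₁ (by simpa using hdeg vC')] at hsub
  · have := Complex.normSq_nonneg ((X : SL2 → ℂ) c)
    exact Complex.normSq_eq_zero.1 (le_antisymm (by
      show Complex.normSq ((X : SL2 → ℂ) c) ≤ 0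
      linarith) this)
  · simpa using hne vC vC' (by omega)
  · simp only [Finset.mem_insert, Finset.mem_singleton, not_or]
    exact ⟨hne vSt vC (by omega), hne vSt vC' (by omega)⟩
  · simp only [Finset.mem_insert, Finset.mem_singleton, not_or]
    exact ⟨hne vP vSt (by omega), hne vP vC (by omega), hne vP vC' (by omega)⟩
  · simp only [Finset.mem_insert, Finset.mem_singleton, not_or]
    exact ⟨hXne vP (by omega), hXne vSt (by omega), hXne vC (by omega), hXne vC' (by omega)⟩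

/-- Every irreducible character of degree `q - 1` has the cuspidal values on the torus. -/
theorem exists_theta_of_degree (h : NSTorus C) {χ : SL2 → ℂ}
    (hχ : Cfsg.IsIrrCharacter SL2 χ) (h1 : χ 1 = (Fintype.card F : ℂ) - 1) :
    ∃ θ : C →* ℂˣ, (∃ c : C, θ c ^ 2 ≠ 1) ∧
      ∀ c : C, (c : SL2) ∉ Subgroup.center SL2 → χ c = -((θ c).val + (θ c)⁻¹.val) := by
  obtain ⟨g, hg, ho, hgz⟩ := regular_generator h
  choose θ hθ using exists_theta h hg ho
  obtain ⟨j, hj⟩ := h.odd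
  have hζ := Complex.isPrimitiveRoot_exp (Fintype.card F + 1) (Nat.succ_ne_zero _)
  set ζ := Complex.exp (2 * Real.pi * Complex.I / (Fintype.card F + 1 : ℕ))
  have hsq : ∀ k : ℕ, 1 ≤ k → k ≤ j → ∃ c : C, θ k c ^ 2 ≠ 1 := by
    intro k hk hkj
    refine ⟨g, fun e => ?_⟩
    have e' := congrArg Units.val e
    rw [Units.val_pow_eq_pow_val, hθ, ← pow_mul, Units.val_one] at e'
    exact hζ.pow_ne_one_of_pos_of_lt (by omega) (by omega) e'
  by_cases h3 : Fintype.card F = 3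
  · have hj1 : j = 1 := by omega
    refine ⟨θ 1, hsq 1 le_rfl (by omega), fun c hc => ?_⟩
    rw [h3] at h1
    rw [eq_zero_of_three h h3 hχ (by rw [h1]; norm_num) c.2 hc]
    have hinv : ∀ x : C, (x : SL2) ∉ Subgroup.center SL2 → (x : SL2) * x = -1 := by
      intro x hx
      have h4 : x ^ 4 = 1 := by
        have := pow_card_eq_one' (x := x)
        rwa [h.card, h3] at this
      have hm : (x : SL2) * x ∈ Subgroup.center SL2 := mem_center_of_sq_eq_one h.two_ne_zero (by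
        have e := congrArg (fun y : C => (y : SL2)) h4
        simp only [Subgroup.coe_pow, Subgroup.coe_one] at e
        rw [← e]
        simp [pow_succ, mul_assoc])
      rcases CfsgLib.SL2Deg.center_cases hm with e | e
      · exact absurd (mem_center_of_sq_eq_one h.two_ne_zero e) hx
      · exact e
    have hgg : g * g = c * c := Subtype.ext ((hinv g hgz).trans (hinv c hc).symm)
    have hv : (θ 1 c : ℂ) * (θ 1 c : ℂ) = -1 := by
      rw [← Units.val_mul, ← map_mul, ← hgg, map_mul, Units.val_mul, hθ, pow_one, ← pow_two]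
      have hz2 : IsPrimitiveRoot (ζ ^ 2) 2 := hζ.pow (Nat.succ_pos _) (by omega)
      exact hz2.eq_neg_one_of_two_right
    have hu : (θ 1 c : ℂ) * ((θ 1 c)⁻¹ : ℂˣ).val = 1 := Units.mul_inv _
    have hne : (θ 1 c : ℂ) ≠ 0 := Units.ne_zero _
    apply mul_left_cancel₀ hne
    linear_combination hv + hu
  have h5 : 5 ≤ Fintype.card F := by
    have := Fintype.one_lt_card (α := F)
    omega
  choose α hα using fun k : ℕ => exists_parity_theta h (θ k)
  let S := {ξ : Cfsg.IrrCharacter SL2 // (ξ : SL2 → ℂ) 1 = ((Fintype.card F - 1 : ℕ) : ℂ)}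
  have hq1 : ((Fintype.card F - 1 : ℕ) : ℂ) = (Fintype.card F : ℂ) - 1 := by
    rw [Nat.cast_sub Fintype.card_pos, Nat.cast_one]
  let Φ : Fin j → S := fun i =>
    ⟨⟨cusp C (θ (i + 1)) (α (i + 1)),
      cusp_irreducible h (hsq _ (by omega) (by omega)) (hα _)⟩, by
      show cusp C (θ (i + 1)) (α (i + 1)) 1 = _
      rw [cusp_one _ _ h, hq1]⟩
  have hinj : Function.Injective Φ := by
    intro a b e
    have e' : cusp C (θ (a + 1)) (α (a + 1)) (g : SL2) = cusp C (θ (b + 1)) (α (b + 1)) (g : SL2) :=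
      congrFun (congrArg Subtype.val (congrArg Subtype.val e)) _
    rw [cusp_noncentral _ _ h hgz, cusp_noncentral _ _ h hgz] at e'
    simp only [Units.val_inv_eq_inv_val, hθ] at e'
    set x := ζ ^ ((a : ℕ) + 1)
    set y := ζ ^ ((b : ℕ) + 1)
    have hx : x * x⁻¹ = 1 := mul_inv_cancel₀ (pow_ne_zero _ (hζ.ne_zero (Nat.succ_ne_zero _)))
    have hy : y * y⁻¹ = 1 := mul_inv_cancel₀ (pow_ne_zero _ (hζ.ne_zero (Nat.succ_ne_zero _)))
    have hprod : (x - y) * (x * y - 1) = 0 := by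
      linear_combination (-(x * y)) * e' + (-y) * hx + x * hy
    rcases mul_eq_zero.1 hprod with e'' | e''
    · have := hζ.pow_inj (by omega) (by omega) (sub_eq_zero.1 e'')
      exact Fin.ext (by omega)
    · exfalso
      rw [← pow_add] at e''
      exact hζ.pow_ne_one_of_pos_of_lt (by omega) (by omega) (sub_eq_zero.1 e'')
  have hcardS : Nat.card S = j := by
    rw [(odd_counts h.odd h5).1 (Fintype.card F - 1)]
    split_ifs <;> omega
  have hbij : Function.Bijective Φ :=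
    (Nat.bijective_iff_injective_and_card Φ).2 ⟨hinj, by rw [Nat.card_fin, hcardS]⟩
  obtain ⟨i, hi⟩ := hbij.2 ⟨⟨χ, hχ⟩, by rw [hq1]; exact h1⟩
  refine ⟨θ (i + 1), hsq _ (by omega) (by omega), fun c hc => ?_⟩
  have hi' : cusp C (θ (i + 1)) (α (i + 1)) = χ :=
    congrArg Subtype.val (congrArg Subtype.val hi)
  rw [← hi', cusp_noncentral _ _ h hc]

end CfsgLib.SL2Cusp
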