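import Cfsg.Agent.Lib.SL2Cusp.DegreeCount
import Cfsg.Agent.Lib.SL2Deg.Counts
import Cfsg.Agent.Lib.SylowAbel.Pi
import Cfsg.Agent.S2430
import Cfsg.Agent.S2431
import Cfsg.Agent.S2437
import Cfsg.Agent.S0261

/-! Character counts of degree prime to `ℓ` for `SL₂(F)` and its Sylow normalizers, `q` odd. -/

set_option autoImplicit false

open scoped Classical

namespace CfsgLib.SL2Cusp

open Matrix CfsgLib.SL2Trace CfsgLib.SL2Borel CfsgLib.SL2Deg

variable {F : Type*} [Field F] [Fintype F] [DecidableEq F]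

local notation "SL2" => Matrix.SpecialLinearGroup (Fin 2) F

/-- The number of irreducible characters of `SL₂` whose degree has a given property. -/
theorem count_degrees (hodd : Odd (Fintype.card F)) (P : ℕ → Prop) :
    ∃ d e : ℕ, 2 * d + 3 = Fintype.card F ∧ 2 * e + 1 = Fintype.card F ∧
      Nat.card {χ : Cfsg.IrrCharacter SL2 // P (Cfsg.charDegree (χ : SL2 → ℂ))} =
        (if P 1 then 1 else 0) + (if P (Fintype.card F) then 1 else 0) +
        2 * (if P ((Fintype.card F + 1) / 2) then 1 else 0) +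
        2 * (if P ((Fintype.card F - 1) / 2) then 1 else 0) +
        d * (if P (Fintype.card F + 1) then 1 else 0) +
        e * (if P (Fintype.card F - 1) then 1 else 0) := by
  have h2 := CfsgLib.SL2Deg.two_ne_zero_of_odd hodd
  obtain ⟨j, hj⟩ := id hodd
  have h3 : 3 ≤ Fintype.card F := by
    have := Fintype.one_lt_card (α := F)
    omega
  obtain ⟨ψ, hψ⟩ := exists_primitive (F := F)
  obtain ⟨ν, hν⟩ := FiniteField.exists_nonsquare (F := F)
    (fun e => h2 (by
      have : CharP F 2 := ringChar.of_eq e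
      exact_mod_cast CharP.cast_eq_zero F 2))
  obtain ⟨Pr, St, A, B, C, C', D, E, -, -, vP, vS, vA, vB, vC, vC', vD, vE, hD, hE, -, hsplit⟩ :=
    odd_table hψ h2 h3 hodd hν
  let g : Cfsg.IrrCharacter SL2 → ℕ := fun χ =>
    if P (Cfsg.charDegree (χ : SL2 → ℂ)) then 1 else 0
  have hk : (Fintype.card F - 1) / 2 = j := by omega
  have hdeg : ∀ {χ : Cfsg.IrrCharacter SL2} {f m n r : ℕ}, Vec ψ ν χ f m n →
      r = f + (Fintype.card F - 1) / 2 * (m + n) → g χ = if P r then 1 else 0 := by
    intro χ f m n r hv hr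
    simp only [g, charDegree_eq (apply_one_of_vec hψ hν hv), ← hr]
  refine ⟨D.card, E.card, hD, hE, ?_⟩
  have hsum := hsplit fun χ => (g χ : ℂ)
  simp only [← Nat.cast_sum, ← Nat.cast_add, Nat.cast_inj] at hsum
  rw [Nat.card_eq_fintype_card, Fintype.card_subtype, Finset.card_filter]
  change ∑ χ, g χ = _
  rw [hsum, hdeg vP (r := 1) (by omega), hdeg vS (r := Fintype.card F) (by omega),
    hdeg vA (r := (Fintype.card F + 1) / 2) (by omega),
    hdeg vB (r := (Fintype.card F + 1) / 2) (by omega),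
    hdeg vC (r := (Fintype.card F - 1) / 2) (by omega),
    hdeg vC' (r := (Fintype.card F - 1) / 2) (by omega),
    Finset.sum_congr rfl fun χ hχ => hdeg (vD χ hχ) (r := Fintype.card F + 1) (by omega),
    Finset.sum_congr rfl fun χ hχ => hdeg (vE χ hχ) (r := Fintype.card F - 1) (by omega),
    Finset.sum_const, Finset.sum_const, smul_eq_mul, smul_eq_mul]
  ring

theorem card_SL2_factor :
    Nat.card SL2 = Fintype.card F * ((Fintype.card F + 1) * (Fintype.card F - 1)) := by
  rw [card_SL2_eq_mul_borel, card_borel]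
  ring

theorem mckay_coprime {ℓ : ℕ} [Fact ℓ.Prime] (hℓ : ¬ ℓ ∣ Nat.card SL2) (S : Sylow ℓ SL2) :
    Nat.card {χ : Cfsg.IrrCharacter SL2 // ¬ ℓ ∣ Cfsg.charDegree (χ : SL2 → ℂ)} =
      Nat.card {ψ : Cfsg.IrrCharacter (Subgroup.normalizer ((S : Subgroup SL2) : Set SL2)) //
        ¬ ℓ ∣ Cfsg.charDegree (ψ : Subgroup.normalizer ((S : Subgroup SL2) : Set SL2) → ℂ)} := by
  have hS : (S : Subgroup SL2) = ⊥ := by
    rw [← Subgroup.card_eq_one, S.card_eq_multiplicity,
      Nat.factorization_eq_zero_of_not_dvd hℓ, pow_zero]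
  have htop : Subgroup.normalizer ((S : Subgroup SL2) : Set SL2) = ⊤ := by
    rw [hS]
    exact Subgroup.normalizer_eq_top_iff.2 inferInstance
  exact (count_congr ((MulEquiv.subgroupCongr htop).trans Subgroup.topEquiv)
    (fun d => ¬ ℓ ∣ d)).symm

theorem mckay_defining (hodd : Odd (Fintype.card F)) {ℓ : ℕ} [Fact ℓ.Prime]
    (hℓ : ℓ ∣ Fintype.card F) (S : Sylow ℓ SL2) :
    Nat.card {χ : Cfsg.IrrCharacter SL2 // ¬ ℓ ∣ Cfsg.charDegree (χ : SL2 → ℂ)} =
      Nat.card {ψ : Cfsg.IrrCharacter (Subgroup.normalizer ((S : Subgroup SL2) : Set SL2)) //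
        ¬ ℓ ∣ Cfsg.charDegree (ψ : Subgroup.normalizer ((S : Subgroup SL2) : Set SL2) → ℂ)} := by
  have hlp : ℓ.Prime := Fact.out
  have hℓ1 : ¬ ℓ ∣ 1 := hlp.not_dvd_one
  have hq0 : 0 < Fintype.card F := Fintype.card_pos
  have hne : ¬ ℓ ∣ Fintype.card F + 1 := fun h => hℓ1 ((Nat.dvd_add_right hℓ).1 h)
  have hne' : ¬ ℓ ∣ Fintype.card F - 1 := fun h => hℓ1 ((Nat.dvd_add_right h).1 (by
    rw [Nat.sub_add_cancel hq0]; exact hℓ))
  obtain ⟨j, hj⟩ := id hodd
  have hhalf : ¬ ℓ ∣ (Fintype.card F + 1) / 2 ∧ ¬ ℓ ∣ (Fintype.card F - 1) / 2 :=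
    ⟨fun h => hne (by
        have := h.mul_left 2
        rwa [show 2 * ((Fintype.card F + 1) / 2) = Fintype.card F + 1 by omega] at this),
      fun h => hne' (by
        have := h.mul_left 2
        rwa [show 2 * ((Fintype.card F - 1) / 2) = Fintype.card F - 1 by omega] at this)⟩
  obtain ⟨d, e, hd, he, hcount⟩ := count_degrees (F := F) hodd (fun r => ¬ ℓ ∣ r)
  rw [hcount, if_pos hℓ1, if_neg (not_not.2 hℓ), if_pos hhalf.1, if_pos hhalf.2, if_pos hne,
    if_pos hne']
  -- the model Sylow subgroup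
  set U := (uHom (F := F)).range with hUdef
  have hmemU : ∀ x : SL2, x ∈ U ↔ ∃ b : F, x = u b := by
    intro x
    constructor
    · rintro ⟨b, rfl⟩
      exact ⟨b.toAdd, rfl⟩
    · rintro ⟨b, rfl⟩
      exact ⟨Multiplicative.ofAdd b, rfl⟩
  have hUcard : Nat.card U = Fintype.card F := by
    have hinj : Function.Injective (uHom (F := F)) := by
      intro a b e'
      have h := congrArg (fun g : SL2 => (g : Matrix (Fin 2) (Fin 2) F) 0 1) e'
      simpa [uHom, coe_u] using h
    rw [hUdef, Nat.card_congr (MonoidHom.ofInjective hinj).symm.toEquiv,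
      Nat.card_congr Multiplicative.toAdd, Nat.card_eq_fintype_card]
  obtain ⟨p, hp⟩ := CharP.exists F
  haveI := Fact.mk (CharP.char_is_prime F p)
  obtain ⟨n, -, hn⟩ := FiniteField.card F p
  have hpℓ : p = ℓ := ((Nat.prime_dvd_prime_iff_eq hlp (CharP.char_is_prime F p)).1
    (hlp.dvd_of_dvd_pow (hn ▸ hℓ))).symm
  subst hpℓ
  have hidx : ¬ p ∣ U.index := by
    have h := U.card_mul_index
    rw [hUcard, card_SL2_factor] at h
    rw [Nat.eq_of_mul_eq_mul_left hq0 h]
    exact fun h' => (hlp.dvd_mul.1 h').elim hne hne'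
  let SU : Sylow p SL2 := (IsPGroup.of_card (n := (n : ℕ)) (hUcard.trans hn)).toSylow hidx
  obtain ⟨g, hg⟩ := MulAction.exists_smul_eq SL2 SU S
  have hNU : Subgroup.normalizer (U : Set SL2) = borel F := by
    refine le_antisymm (fun x hx => ?_) (fun x hx => ?_)
    · rw [mem_borel_iff]
      have h1 := (Subgroup.mem_normalizer_iff.1 hx (u 1)).1 ((hmemU _).2 ⟨1, rfl⟩)
      obtain ⟨b, hb⟩ := (hmemU _).1 h1
      simpa using ((mul_u_eq_iff x 1 b).1 (mul_inv_eq_iff_eq_mul.1 hb)).2.1
    · have hfwd : ∀ y ∈ borel F, ∀ b : F, y * u b * y⁻¹ ∈ U := by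
        intro y hy b
        rw [mem_borel_iff] at hy
        have hd := det_coe y
        rw [hy, mul_zero, sub_zero] at hd
        refine (hmemU _).2 ⟨(y : Matrix (Fin 2) (Fin 2) F) 0 0 ^ 2 * b, ?_⟩
        rw [mul_inv_eq_iff_eq_mul, mul_u_eq_iff]
        refine ⟨by rw [hy, zero_mul], by rw [hy, zero_mul], ?_⟩
        linear_combination (-((y : Matrix (Fin 2) (Fin 2) F) 0 0 * b)) * hd
      rw [Subgroup.mem_normalizer_iff]
      intro h
      constructor
      · intro hh
        obtain ⟨b, rfl⟩ := (hmemU _).1 hh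
        exact hfwd x hx b
      · intro hh
        obtain ⟨b, hb⟩ := (hmemU _).1 hh
        have := hfwd x⁻¹ (inv_mem hx) b
        rw [← hb] at this
        simpa [mul_assoc] using this
  have hiso : borel F ≃* Subgroup.normalizer ((S : Subgroup SL2) : Set SL2) := by
    refine (((MulAut.conj g).subgroupMap (borel F)).trans (MulEquiv.subgroupCongr ?_))
    rw [← hNU, ← hg, Sylow.coe_subgroup_smul]
    exact Subgroup.map_equiv_normalizer_eq U (MulAut.conj g)
  have hUB : U ≤ borel F := hNU ▸ Subgroup.le_normalizer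
  haveI : (U.subgroupOf (borel F)).Normal :=
    Subgroup.normal_subgroupOf_of_le_normalizer hNU.ge
  rw [← count_congr hiso (fun r => ¬ p ∣ r),
    count_abelian_normal (U.subgroupOf (borel F)) ?_ ?_, Cfsg.Agent.S2437.result hodd]
  · omega
  · intro a ha b hb
    obtain ⟨x, hx⟩ := (hmemU _).1 ha
    obtain ⟨y, hy⟩ := (hmemU _).1 hb
    apply Subtype.ext
    show (a : SL2) * (b : SL2) = (b : SL2) * (a : SL2)
    change (a : SL2) = u x at hx
    change (b : SL2) = u y at hy
    rw [hx, hy, ← u_add, ← u_add, add_comm]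
  · have h := (U.subgroupOf (borel F)).card_mul_index
    rw [Nat.card_congr (Subgroup.subgroupOfEquivOfLe hUB).toEquiv, hUcard, card_borel,
      mul_comm (Fintype.card F - 1)] at h
    rw [Nat.eq_of_mul_eq_mul_left hq0 h]
    exact hne'

theorem mckay_torus (hodd : Odd (Fintype.card F)) {ℓ : ℕ} [Fact ℓ.Prime] (hℓ2 : ℓ ≠ 2)
    (S : Sylow ℓ SL2) {t : ℕ} (ht : 4 ≤ t) (hpm : t = Fintype.card F - 1 ∨ t = Fintype.card F + 1)
    (hC : Nat.card (Subgroup.centralizer ((S : Subgroup SL2) : Set SL2)) = t)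
    (hcyc : IsCyclic (Subgroup.centralizer ((S : Subgroup SL2) : Set SL2)))
    (hN : Nat.card (Subgroup.normalizer ((S : Subgroup SL2) : Set SL2)) = 2 * t) :
    2 * Nat.card {ψ : Cfsg.IrrCharacter (Subgroup.normalizer ((S : Subgroup SL2) : Set SL2)) //
        ¬ ℓ ∣ Cfsg.charDegree (ψ : Subgroup.normalizer ((S : Subgroup SL2) : Set SL2) → ℂ)} =
      t + 6 := by
  have h2 := CfsgLib.SL2Deg.two_ne_zero_of_odd hodd
  set CS := Subgroup.centralizer ((S : Subgroup SL2) : Set SL2) with hCS
  obtain ⟨M, hM⟩ := hcyc.exists_generator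
  have hMo : orderOf M = t := (orderOf_eq_card_of_forall_mem_zpowers hM).trans hC
  have hreg : ((M : SL2) : Matrix (Fin 2) (Fin 2) F).trace ^ 2 ≠ 4 := by
    intro htr
    haveI := Fact.mk (CharP.char_is_prime F (ringChar F))
    have hp := pow_char_mem_center (ringChar F) (M : SL2) htr
    have h1 : (M : SL2) ^ (2 * ringChar F) = 1 := by
      rw [mul_comm, pow_mul, pow_two]
      exact mul_self_eq_one_of_mem_center hp
    have hdvd : t ∣ 2 * ringChar F := by
      rw [← hMo, ← Subgroup.orderOf_coe]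
      exact orderOf_dvd_of_pow_eq_one h1
    have hpq : ringChar F ∣ Fintype.card F := by
      obtain ⟨m, -, hm⟩ := FiniteField.card F (ringChar F)
      exact hm ▸ dvd_pow_self _ m.pos.ne'
    have hcop : Nat.Coprime (ringChar F) t := by
      refine (Nat.Prime.coprime_iff_not_dvd (CharP.char_is_prime F (ringChar F))).2 fun hd => ?_
      rcases hpm with e | e <;> subst e
      · exact (CharP.char_is_prime F (ringChar F)).not_dvd_one ((Nat.dvd_add_right hd).1 (by
          rw [Nat.sub_add_cancel Fintype.card_pos]; exact hpq))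
      · exact (CharP.char_is_prime F (ringChar F)).not_dvd_one ((Nat.dvd_add_right hpq).1 hd)
    have := Nat.le_of_dvd two_pos (hcop.symm.dvd_of_dvd_mul_right hdvd)
    omega
  set T := Subgroup.centralizer ({(M : SL2)} : Set SL2) with hT
  have hle : CS ≤ T := fun x hx => Subgroup.mem_centralizer_singleton_iff.2 (by
    haveI := hcyc
    exact congrArg Subtype.val (IsMulCommutative.is_comm.comm (⟨x, hx⟩ : CS) M))
  have hTcard : Nat.card T = t := by
    obtain ⟨-, ha, hb⟩ := centralizer_card_cyclic (M : SL2) hreg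
    have hdvd := Subgroup.card_dvd_of_le hle
    rw [hC] at hdvd
    by_cases hr : ∃ u : F, u ^ 2 - ((M : SL2) : Matrix (Fin 2) (Fin 2) F).trace * u + 1 = 0
    · rw [hT, ha hr]
      rw [hT, ha hr] at hdvd
      rcases hpm with e | e
      · exact e.symm
      · have := Nat.le_of_dvd (by have := Fintype.one_lt_card (α := F); omega) hdvd
        omega
    · rw [hT, hb hr]
      rw [hT, hb hr] at hdvd
      rcases hpm with e | e
      · obtain ⟨j, hj⟩ := hodd
        rw [e, show Fintype.card F + 1 = (Fintype.card F - 1) + 2 by omega] at hdvd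
        have := Nat.le_of_dvd two_pos ((Nat.dvd_add_right dvd_rfl).1 hdvd)
        omega
      · exact e.symm
  have hCT : CS = T := Subgroup.eq_of_le_of_card_ge hle (by rw [hTcard, hC])
  have hNle : Subgroup.normalizer ((S : Subgroup SL2) : Set SL2) ≤
      Subgroup.normalizer (T : Set SL2) := by
    have hfwd : ∀ x ∈ Subgroup.normalizer ((S : Subgroup SL2) : Set SL2), ∀ h ∈ CS,
        x * h * x⁻¹ ∈ CS := by
      intro x hx h hh
      rw [hCS, Subgroup.mem_centralizer_iff] at hh ⊢
      intro s hs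
      have hs' := (Subgroup.mem_normalizer_iff''.1 hx s).1 hs
      have := hh _ hs'
      calc s * (x * h * x⁻¹) = x * ((x⁻¹ * s * x) * h) * x⁻¹ := by group
        _ = x * (h * (x⁻¹ * s * x)) * x⁻¹ := by rw [this]
        _ = x * h * x⁻¹ * s := by group
    intro x hx
    rw [← hCT, Subgroup.mem_normalizer_iff]
    intro h
    refine ⟨hfwd x hx h, fun hh => ?_⟩
    have := hfwd x⁻¹ (inv_mem hx) _ hh
    simpa [mul_assoc] using this
  have hNeq : Subgroup.normalizer ((S : Subgroup SL2) : Set SL2) =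
      Subgroup.normalizer (T : Set SL2) :=
    Subgroup.eq_of_le_of_card_ge hNle (by
      rw [hN, hT, card_normalizer_torus hreg h2, ← hT, hTcard])
  haveI : (T.subgroupOf (Subgroup.normalizer (T : Set SL2))).Normal :=
    Subgroup.normal_in_normalizer
  rw [count_congr (MulEquiv.subgroupCongr hNeq) (fun r => ¬ ℓ ∣ r),
    count_abelian_normal (T.subgroupOf (Subgroup.normalizer (T : Set SL2))) ?_ ?_, hT,
    card_conjClasses_normalizer hreg h2, ← hT, hTcard]
  · intro a ha b hb
    exact Subtype.ext (torus_comm hreg (Subgroup.mem_subgroupOf.1 ha) (Subgroup.mem_subgroupOf.1 hb))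
  · have h := (T.subgroupOf (Subgroup.normalizer (T : Set SL2))).card_mul_index
    rw [Nat.card_congr (Subgroup.subgroupOfEquivOfLe Subgroup.le_normalizer).toEquiv, hT,
      card_normalizer_torus hreg h2, ← hT, hTcard, mul_comm 2 t] at h
    rw [Nat.eq_of_mul_eq_mul_left (by omega) h]
    exact fun hd => hℓ2 ((Nat.prime_dvd_prime_iff_eq Fact.out Nat.prime_two).1 hd)

theorem quaternion_index {k : ℕ} (hk : 1 ≤ k) :
    (commutator (QuaternionGroup (2 ^ k))).index = 4 := by
  haveI : NeZero (2 ^ k) := ⟨pow_ne_zero _ two_ne_zero⟩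
  have hdvd : 2 ∣ 2 * 2 ^ k := dvd_mul_right 2 _
  let c := ZMod.castHom hdvd (ZMod 2)
  let f : QuaternionGroup (2 ^ k) → Multiplicative (ZMod 2 × ZMod 2) := fun x =>
    match x with
    | .a i => Multiplicative.ofAdd (c i, 0)
    | .xa i => Multiplicative.ofAdd (c i, 1)
  have hn : c ((2 ^ k : ℕ) : ZMod (2 * 2 ^ k)) = 0 := by
    rw [map_natCast]
    exact (ZMod.natCast_eq_zero_iff_even).2 ((Nat.even_pow' (by omega)).2 even_two)
  let φ : QuaternionGroup (2 ^ k) →* Multiplicative (ZMod 2 × ZMod 2) :=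
    MonoidHom.mk' f (by
      rintro (i | i) (j | j) <;>
        simp only [f, QuaternionGroup.a_mul_a, QuaternionGroup.a_mul_xa, QuaternionGroup.xa_mul_a,
          QuaternionGroup.xa_mul_xa, map_add, map_sub, hn, zero_add, ← ofAdd_add, Prod.mk_add_mk,
          add_zero] <;>
        congr 2 <;> revert i j <;> intro i j <;> generalize c i = a <;> generalize c j = b <;>
        revert a b <;> decide)
  have hker : φ.ker = commutator (QuaternionGroup (2 ^ k)) := by
    refine le_antisymm (fun x hx => ?_) (Abelianization.commutator_subset_ker φ)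
    rcases x with i | i
    · have hi : c i = 0 := by
        have := congrArg (fun y => (Multiplicative.toAdd y).1) (MonoidHom.mem_ker.1 hx)
        simpa [φ, f] using this
      rw [← ZMod.natCast_zmod_val i, map_natCast, ZMod.natCast_eq_zero_iff_even] at hi
      obtain ⟨m, hm⟩ := hi
      have := CfsgLib.SylowAbel.good_quaternion hk (QuaternionGroup.a (m : ZMod (2 * 2 ^ k)))
      unfold CfsgLib.SylowAbel.Good at this
      rw [pow_two, QuaternionGroup.a_mul_a, ← Nat.cast_add, ← hm, ZMod.natCast_zmod_val] at this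
      exact this
    · exfalso
      have := congrArg (fun y => (Multiplicative.toAdd y).2) (MonoidHom.mem_ker.1 hx)
      simp [φ, f] at this
  rw [← hker, Subgroup.index_ker]
  have hsurj : Function.Surjective φ := by
    intro y
    obtain ⟨⟨a, b⟩, rfl⟩ := Multiplicative.ofAdd.surjective y
    have hca : c ((a.val : ℕ) : ZMod (2 * 2 ^ k)) = a := by
      rw [map_natCast, ZMod.natCast_zmod_val]
    rcases (show b = 0 ∨ b = 1 by revert b; decide) with rfl | rfl
    · exact ⟨QuaternionGroup.a ((a.val : ℕ) : ZMod (2 * 2 ^ k)),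
        congrArg (fun x => Multiplicative.ofAdd (x, (0 : ZMod 2))) hca⟩
    · exact ⟨QuaternionGroup.xa ((a.val : ℕ) : ZMod (2 * 2 ^ k)),
        congrArg (fun x => Multiplicative.ofAdd (x, (1 : ZMod 2))) hca⟩
  rw [MonoidHom.range_eq_top.2 hsurj, Subgroup.card_top]
  simp

theorem mckay_two (hodd : Odd (Fintype.card F)) (S : Sylow 2 SL2) :
    Nat.card {ψ : Cfsg.IrrCharacter (Subgroup.normalizer ((S : Subgroup SL2) : Set SL2)) //
        ¬ 2 ∣ Cfsg.charDegree (ψ : Subgroup.normalizer ((S : Subgroup SL2) : Set SL2) → ℂ)} = 4 := by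
  have h2 := CfsgLib.SL2Deg.two_ne_zero_of_odd hodd
  obtain ⟨k, hk, ⟨e⟩⟩ := Cfsg.Agent.S0261.result hodd S
  have hindex : (commutator (S : Subgroup SL2)).index = 4 := by
    rw [Subgroup.index_eq_card]
    have h4 := quaternion_index hk
    rw [Subgroup.index_eq_card] at h4
    rw [← h4]
    exact Nat.card_congr e.abelianizationCongr.toEquiv
  obtain ⟨hcen, h17, h35⟩ := Cfsg.Agent.S2431.result hodd S
  have hq : Fintype.card F % 8 = 1 ∨ Fintype.card F % 8 = 7 ∨ Fintype.card F % 8 = 3 ∨
      Fintype.card F % 8 = 5 := by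
    obtain ⟨j, hj⟩ := hodd
    omega
  rcases hq with h | h | h | h
  iterate 2
    rw [count_congr (MulEquiv.subgroupCongr (h17 (by omega))) (fun r => ¬ 2 ∣ r),
      count_two_group S.isPGroup', hindex]
  all_goals
    have hS8 : Nat.card S = 8 := by
      obtain ⟨m, hm⟩ : ∃ m, Fintype.card F * ((Fintype.card F + 1) * (Fintype.card F - 1)) =
          8 * (2 * m + 1) := by
        have : Fintype.card F * ((Fintype.card F + 1) * (Fintype.card F - 1)) % 16 = 8 := by
          have h16 : Fintype.card F % 16 = 3 ∨ Fintype.card F % 16 = 5 ∨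
              Fintype.card F % 16 = 11 ∨ Fintype.card F % 16 = 13 := by omega
          have e1 : (Fintype.card F + 1) % 16 = Fintype.card F % 16 + 1 := by omega
          have e2 : (Fintype.card F - 1) % 16 = Fintype.card F % 16 - 1 := by omega
          rw [Nat.mul_mod, Nat.mul_mod (Fintype.card F + 1), e1, e2]
          rcases h16 with e | e | e | e <;> rw [e]
        exact ⟨Fintype.card F * ((Fintype.card F + 1) * (Fintype.card F - 1)) / 16, by omega⟩
      rw [S.card_eq_multiplicity, card_SL2_factor, hm,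
        Nat.factorization_mul (by norm_num) (by omega), Finsupp.add_apply,
        show (8 : ℕ) = 2 ^ 3 from rfl, Nat.prime_two.factorization_pow, Finsupp.single_eq_same,
        Nat.factorization_eq_zero_of_not_dvd (by omega)]
    set N := Subgroup.normalizer ((S : Subgroup SL2) : Set SL2) with hN
    have hN24 : Nat.card N = 24 := by rw [hN, h35 (by omega), hS8]
    have hle : (S : Subgroup SL2) ≤ N := Subgroup.le_normalizer
    haveI : ((S : Subgroup SL2).subgroupOf N).Normal := Subgroup.normal_in_normalizer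
    have hzS : (-1 : SL2) ∈ (S : Subgroup SL2) ∧
        ∃ w : (S : Subgroup SL2), w ∈ commutator (S : Subgroup SL2) ∧ (w : SL2) = -1 := by
      have hne : commutator (S : Subgroup SL2) ≠ ⊥ := fun hb => by
        rw [hb, Subgroup.index_bot, hS8] at hindex
        omega
      haveI := Fact.mk Nat.prime_two
      have hpg : IsPGroup 2 (commutator (S : Subgroup SL2)) := S.isPGroup'.to_subgroup _
      obtain ⟨m, hm⟩ := IsPGroup.iff_card.1 hpg
      have hm0 : m ≠ 0 := fun e0 => hne (Subgroup.card_eq_one.1 (by rw [hm, e0, pow_zero]))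
      obtain ⟨w, hw⟩ := exists_prime_orderOf_dvd_card' (G := commutator (S : Subgroup SL2)) 2
        (hm ▸ dvd_pow_self 2 hm0)
      have hw1 : orderOf ((w : (S : Subgroup SL2)) : SL2) = 2 := by
        rw [Subgroup.orderOf_coe, Subgroup.orderOf_coe, hw]
      have hsq : ((w : (S : Subgroup SL2)) : SL2) * (w : (S : Subgroup SL2)) = 1 := by
        rw [← pow_two]
        exact orderOf_dvd_iff_pow_eq_one.1 (dvd_of_eq hw1)
      rcases CfsgLib.SL2Deg.center_cases (mem_center_of_sq_eq_one h2 hsq) with e1 | e1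
      · rw [e1, orderOf_one] at hw1
        omega
      · exact ⟨e1 ▸ (w : (S : Subgroup SL2)).2, _, w.2, e1⟩
    obtain ⟨hz, w, hw, hwv⟩ := hzS
    refine count_twentyfour hN24 ((S : Subgroup SL2).subgroupOf N) ?_ (z := ⟨-1, hle hz⟩) ?_ ?_ ?_ hz ?_ ?_
    · rw [Nat.card_congr (Subgroup.subgroupOfEquivOfLe hle).toEquiv, hS8]
    · refine Subgroup.mem_center_iff.2 fun x => Subtype.ext ?_
      exact Subgroup.mem_center_iff.1 CfsgLib.SL2Deg.neg_one_mem_center (x : SL2)
    · intro e1
      have e2 : (-1 : SL2) = 1 := congrArg Subtype.val e1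
      have e3 := congrArg (fun g : SL2 => (g : Matrix (Fin 2) (Fin 2) F) 0 0) e2
      simp only [Matrix.SpecialLinearGroup.coe_neg, Matrix.SpecialLinearGroup.coe_one,
        Matrix.neg_apply, Matrix.one_apply_eq] at e3
      exact h2 (by linear_combination -e3)
    · exact Subtype.ext ((neg_mul_neg 1 1).trans (one_mul 1))
    · have hmap : (commutator (S : Subgroup SL2)).map (Subgroup.inclusion hle) ≤ commutator N := by
        rw [commutator_def, Subgroup.map_commutator, commutator_def]
        exact Subgroup.commutator_mono le_top le_top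
      have := hmap ⟨w, hw, rfl⟩
      rwa [show Subgroup.inclusion hle w = ⟨-1, hle hz⟩ from Subtype.ext hwv] at this
    · intro x hx
      have hxc : (x : SL2) ∈ Subgroup.centralizer ((S : Subgroup SL2) : Set SL2) :=
        Subgroup.mem_centralizer_iff.2 fun s hs =>
          (congrArg Subtype.val (hx ⟨s, hle hs⟩ hs)).symm
      rw [hcen] at hxc
      rcases CfsgLib.SL2Deg.center_cases hxc with e1 | e1
      · rw [show x = 1 from Subtype.ext e1]
        exact one_mem _
      · rw [show x = ⟨-1, hle hz⟩ from Subtype.ext e1]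
        exact Subgroup.mem_zpowers _

end CfsgLib.SL2Cusp
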