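import Cfsg.Agent.Lib.SL2Cusp.Torus
import Cfsg.Agent.Lib.Char.Conj

/-!
The cuspidal generalized characters of `SL₂(F)`, `q` odd, attached to the characters of a
non-split torus.
-/

set_option autoImplicit false

open scoped ComplexConjugate Classical

namespace CfsgLib.SL2Cusp

open Matrix CfsgLib.SL2Trace CfsgLib.SL2Borel CfsgLib.SL2Deg

variable {F : Type*} [Field F] [Fintype F] [DecidableEq F]

local notation "SL2" => Matrix.SpecialLinearGroup (Fin 2) F

/-- The part supported on the Borel classes. -/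
noncomputable def borelPart (α : MulChar F ℂ) : SL2 → ℂ :=
  fun g => (R (1 : MulChar F ℂ) g - 2) * R α g

/-- The function induced from the torus. -/
noncomputable def torusPart (C : Subgroup (Matrix.SpecialLinearGroup (Fin 2) F)) (θ : C →* ℂˣ) :
    SL2 → ℂ :=
  Cfsg.indFun C (fun c => (θ c : ℂ))

/-- The cuspidal generalized character. -/
noncomputable def cusp (C : Subgroup (Matrix.SpecialLinearGroup (Fin 2) F)) (θ : C →* ℂˣ)
    (α : MulChar F ℂ) : SL2 → ℂ :=
  borelPart α - torusPart C θ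

theorem exists_parity (hodd : Odd (Fintype.card F)) (w : ℂ) (hw : w * w = 1) :
    ∃ α : MulChar F ℂ, α (-1) = w := by
  rcases mul_self_eq_one_iff.1 hw with rfl | rfl
  · exact ⟨1, MulChar.one_apply isUnit_one.neg⟩
  · by_contra hne
    simp only [not_exists] at hne
    have h2 := CfsgLib.SL2Deg.two_ne_zero_of_odd hodd
    let _ : Fintype (MulChar F ℂ) := Fintype.ofFinite _
    have hs := sum_mulChar (F := F) (-1 : Fˣ)
    rw [if_neg (fun e => h2 (by
      have e' := congrArg (fun a : Fˣ => (a : F)) e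
      simp only [Units.val_neg, Units.val_one] at e'
      linear_combination -e'))] at hs
    have hall : ∀ α : MulChar F ℂ, α ((-1 : Fˣ) : F) = 1 := by
      intro α
      rw [Units.val_neg, Units.val_one]
      refine (mul_self_eq_one_iff.1 ?_).resolve_right (hne α)
      rw [← map_mul, neg_one_mul, neg_neg, MulChar.map_one]
    rw [Finset.sum_congr rfl fun α _ => hall α] at hs
    simp only [Finset.sum_const, nsmul_eq_mul, mul_one, Nat.cast_eq_zero,
      Finset.card_eq_zero] at hs
    exact Finset.univ_nonempty.ne_empty hs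

theorem R_one_upper_regular {g : SL2} (h10 : (g : Matrix (Fin 2) (Fin 2) F) 1 0 = 0)
    (hne : (g : Matrix (Fin 2) (Fin 2) F) 0 0 ≠ (g : Matrix (Fin 2) (Fin 2) F) 1 1)
    (α : MulChar F ℂ) :
    R α g = α ((g : Matrix (Fin 2) (Fin 2) F) 0 0) + α ((g : Matrix (Fin 2) (Fin 2) F) 1 1) := by
  have hd := det_coe g
  rw [h10, mul_zero, sub_zero] at hd
  let d : SL2 := mk2 ((g : Matrix (Fin 2) (Fin 2) F) 0 0) 0 0
    ((g : Matrix (Fin 2) (Fin 2) F) 1 1) (by linear_combination hd)
  obtain ⟨P, hP⟩ : ∃ P : SL2, g = P * d * P⁻¹ := by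
    refine isConj_of_trace_eq d g ?_ ?_
    · rw [Matrix.trace_fin_two]
      intro h
      have h0 : ((g : Matrix (Fin 2) (Fin 2) F) 0 0 - (g : Matrix (Fin 2) (Fin 2) F) 1 1) ^ 2 = 0 := by
        simp [d, coe_mk2] at h
        linear_combination h - 4 * hd
      exact hne (sub_eq_zero.1 (pow_eq_zero_iff two_ne_zero |>.1 h0))
    · simp [Matrix.trace_fin_two, d, coe_mk2]
  rw [hP, isClassFunction_R α d P, R_diag α (g := d) (by simp [d, coe_mk2]) (by simp [d, coe_mk2])
    (by simpa [d, coe_mk2] using hne), ← hP]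
  simp [d, coe_mk2]

variable {C : Subgroup (Matrix.SpecialLinearGroup (Fin 2) F)} (θ : C →* ℂˣ) (α : MulChar F ℂ)

theorem isClassFunction_torusPart : Cfsg.IsClassFunction SL2 (torusPart C θ) :=
  CfsgLib.Char.isClassFunction_indFun _ _

theorem isClassFunction_borelPart : Cfsg.IsClassFunction SL2 (borelPart α) := by
  intro g h
  simp only [borelPart, isClassFunction_R _ g h]

theorem isClassFunction_cusp : Cfsg.IsClassFunction SL2 (cusp C θ α) := by
  intro g h
  simp only [cusp, Pi.sub_apply, isClassFunction_borelPart α g h, isClassFunction_torusPart θ g h]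

theorem isGeneralizedCharacter_cusp : Cfsg.IsGeneralizedCharacter SL2 (cusp C θ α) := by
  refine CfsgLib.Char.IsGeneralizedCharacter.sub ?_ ?_
  · have h := CfsgLib.Char.IsGeneralizedCharacter.mul
      (CfsgLib.Char.IsGeneralizedCharacter.sub
        (CfsgLib.Char.IsCharacter.isGeneralizedCharacter
          (exists_nat_classInner_R (1 : MulChar F ℂ)))
        (CfsgLib.Char.IsGeneralizedCharacter.intCast (G := SL2) 2))
      (CfsgLib.Char.IsCharacter.isGeneralizedCharacter (exists_nat_classInner_R α))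
    have e : borelPart α = (R (1 : MulChar F ℂ) - fun _ : SL2 => ((2 : ℤ) : ℂ)) * R α := by
      funext g
      simp [borelPart]
    rw [e]
    exact h
  · exact CfsgLib.Char.IsCharacter.isGeneralizedCharacter
      (CfsgLib.Char.IsCharacter.indFun C
        (CfsgLib.Char.IsIrrCharacter.isCharacter (CfsgLib.Char.isIrrCharacter_monoidHom θ)))

theorem conj_theta (c : C) : conj (θ c : ℂ) = ((θ c)⁻¹ : ℂˣ).val := by
  have h := CfsgLib.Char.IsIrrCharacter.apply_inv (CfsgLib.Char.isIrrCharacter_monoidHom θ) c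
  rw [← h, map_inv]

theorem theta_mul_self {c : C} (hc : (c : SL2) = -1) : (θ c : ℂ) * θ c = 1 := by
  rw [← Units.val_mul, ← map_mul,
    show c * c = 1 from Subtype.ext (by simp [hc]), map_one, Units.val_one]

section Torus

variable (h : NSTorus C)

include h

theorem card_C_ne_zero : (Nat.card C : ℂ) ≠ 0 := by
  rw [h.card]
  exact Nat.cast_ne_zero.2 (Nat.succ_ne_zero _)

theorem torusPart_noncentral {c : C} (hc : (c : SL2) ∉ Subgroup.center SL2) :
    torusPart C θ (c : SL2) = (θ c : ℂ) + ((θ c)⁻¹ : ℂˣ).val := by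
  classical
  obtain ⟨hC, -⟩ := h.centralizer c.2 hc
  have hreg := h.regular c.2 hc
  have hne : (c : SL2) ≠ (c : SL2)⁻¹ := fun e =>
    sq_ne_one_of_regular (c : SL2) h.two_ne_zero hreg (by nth_rewrite 2 [e]; exact mul_inv_cancel _)
  obtain ⟨U, hU⟩ := exists_inverter hreg
  have hterm : ∀ x : SL2, Cfsg.extendByZero C (fun c => (θ c : ℂ)) (x⁻¹ * (c : SL2) * x) =
      (if x⁻¹ * (c : SL2) * x = c then (θ c : ℂ) else 0) +
        (if x⁻¹ * (c : SL2) * x = (c : SL2)⁻¹ then ((θ c)⁻¹ : ℂˣ).val else 0) := by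
    intro x
    by_cases h1 : x⁻¹ * (c : SL2) * x = c
    · rw [if_pos h1, if_neg (by rw [h1]; exact hne), h1, add_zero,
        CfsgLib.Char.extendByZero_coe]
    by_cases h2 : x⁻¹ * (c : SL2) * x = (c : SL2)⁻¹
    · rw [if_neg h1, if_pos h2, h2, zero_add]
      show Cfsg.extendByZero C _ ((c⁻¹ : C) : SL2) = _
      rw [CfsgLib.Char.extendByZero_coe, map_inv]
    · rw [if_neg h1, if_neg h2, add_zero, CfsgLib.Char.extendByZero_of_notMem]
      intro hm
      have hmem : x⁻¹ * (c : SL2) * x ∈ Subgroup.centralizer ({(c : SL2)} : Set SL2) := hC ▸ hm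
      have htr : ((x⁻¹ * (c : SL2) * x : SL2) : Matrix (Fin 2) (Fin 2) F).trace =
          ((c : SL2) : Matrix (Fin 2) (Fin 2) F).trace := by
        have := trace_mul_mul_inv (G := x⁻¹) (c : SL2)
        rwa [inv_inv] at this
      rcases eq_or_eq_inv_of_trace_eq hreg h.two_ne_zero (self_mem (c : SL2)) hmem htr with e | e
      · exact h1 e
      · exact h2 e
  have hcard1 : Nat.card {x : SL2 // x⁻¹ * (c : SL2) * x = c} = Nat.card C := by
    refine Nat.card_congr (Equiv.subtypeEquivRight fun x => ?_)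
    rw [mul_assoc, inv_mul_eq_iff_eq_mul]
    show _ ↔ x ∈ C
    rw [show x ∈ C ↔ x ∈ Subgroup.centralizer ({(c : SL2)} : Set SL2) from SetLike.ext_iff.1 hC x,
      Subgroup.mem_centralizer_singleton_iff]
    exact eq_comm
  have hcard2 : Nat.card {x : SL2 // x⁻¹ * (c : SL2) * x = (c : SL2)⁻¹} = Nat.card C := by
    rw [← hcard1]
    refine Nat.card_congr (Equiv.subtypeEquiv (Equiv.mulRight U) fun x => ?_)
    show _ ↔ (x * U)⁻¹ * (c : SL2) * (x * U) = c
    rw [show (x * U)⁻¹ * (c : SL2) * (x * U) = U⁻¹ * (x⁻¹ * (c : SL2) * x) * U by group]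
    constructor
    · intro e
      rw [e, ← hU]
      group
    · intro e
      calc x⁻¹ * (c : SL2) * x = U * (U⁻¹ * (x⁻¹ * (c : SL2) * x) * U) * U⁻¹ := by group
        _ = (c : SL2)⁻¹ := by rw [e, hU]
  rw [torusPart, CfsgLib.Char.indFun_apply, Finset.sum_congr rfl fun x _ => hterm x,
    Finset.sum_add_distrib, sum_ite_eq_card, sum_ite_eq_card, hcard1, hcard2, ← mul_add,
    inv_mul_cancel_left₀ (card_C_ne_zero h)]

theorem torusPart_central {z : C} (hz : (z : SL2) ∈ Subgroup.center SL2) :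
    torusPart C θ (z : SL2) = (Fintype.card F : ℂ) * ((Fintype.card F : ℂ) - 1) * (θ z : ℂ) := by
  have hterm : ∀ x : SL2, Cfsg.extendByZero C (fun c => (θ c : ℂ)) (x⁻¹ * (z : SL2) * x) =
      (θ z : ℂ) := by
    intro x
    rw [mul_assoc, ← Subgroup.mem_center_iff.1 hz x, inv_mul_cancel_left,
      CfsgLib.Char.extendByZero_coe]
  rw [torusPart, CfsgLib.Char.indFun_apply, Finset.sum_congr rfl fun x _ => hterm x,
    Finset.sum_const, Finset.card_univ, nsmul_eq_mul, ← Nat.card_eq_fintype_card,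
    card_SL2_eq_mul_borel, card_borel, h.card, Nat.cast_mul, Nat.cast_mul,
    Nat.cast_sub Fintype.card_pos]
  have : ((Fintype.card F + 1 : ℕ) : ℂ) ≠ 0 := Nat.cast_ne_zero.2 (Nat.succ_ne_zero _)
  field_simp
  push_cast
  ring

theorem torusPart_of_root {g : SL2} (hz : g ∉ Subgroup.center SL2)
    (hr : ∃ u : F, u ^ 2 - (g : Matrix (Fin 2) (Fin 2) F).trace * u + 1 = 0) :
    torusPart C θ g = 0 := by
  refine CfsgLib.Char.indFun_eq_zero_of_forall_notMem _ _ g fun x hx => ?_
  have hz' : x⁻¹ * g * x ∉ Subgroup.center SL2 := fun hc => hz (by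
    have e := Subgroup.mem_center_iff.1 hc x
    have : g = x⁻¹ * g * x := by
      calc g = x * (x⁻¹ * g * x) * x⁻¹ := by group
        _ = x⁻¹ * g * x := by rw [e, mul_inv_cancel_right]
    rw [this]
    exact hc)
  obtain ⟨-, hno⟩ := h.centralizer hx hz'
  have htr := trace_mul_mul_inv (G := x⁻¹) g
  rw [inv_inv] at htr
  rw [htr] at hno
  exact hno hr

theorem cusp_bMk_regular (a : Fˣ) (ha : (a : F) * a ≠ 1) (b : F) :
    cusp C θ α (bMk a b : SL2) = 0 := by
  have h10 : ((bMk a b : SL2) : Matrix (Fin 2) (Fin 2) F) 1 0 = 0 := by simp [bMk_coe]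
  have hne : ((bMk a b : SL2) : Matrix (Fin 2) (Fin 2) F) 0 0 ≠
      ((bMk a b : SL2) : Matrix (Fin 2) (Fin 2) F) 1 1 := by
    intro e
    simp only [bMk_coe, of_apply, cons_val', cons_val_zero, cons_val_one, cons_val_fin_one,
      empty_val'] at e
    apply ha
    nth_rewrite 2 [e]
    exact a.mul_inv
  have hR : R (1 : MulChar F ℂ) (bMk a b : SL2) = 2 := by
    rw [R_one_upper_regular h10 hne]
    simp [bMk_coe, MulChar.one_apply]
    norm_num
  rw [cusp, Pi.sub_apply, borelPart, hR, sub_self, zero_mul, torusPart_of_root θ h, sub_zero]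
  · intro hc
    exact hne (mem_center_iff_entries.1 hc).2.2
  · refine ⟨a, ?_⟩
    simp only [bMk_coe, Matrix.trace_fin_two_of]
    have := a.mul_inv
    linear_combination -this

theorem bMk_zero_eq {a : Fˣ} (ha : (a : F) * a = 1) :
    (bMk a 0 : SL2) = if (a : F) = 1 then 1 else -1 := by
  have hinv : ((a⁻¹ : Fˣ) : F) = (a : F) := by
    rw [Units.val_inv_eq_inv_val]
    exact inv_eq_of_mul_eq_one_right ha
  split_ifs with h1
  · apply Subtype.ext
    rw [bMk_coe, hinv, h1, Matrix.SpecialLinearGroup.coe_one]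
    ext i j; fin_cases i <;> fin_cases j <;> simp
  · have h1' := (mul_self_eq_one_iff.1 ha).resolve_left h1
    apply Subtype.ext
    rw [bMk_coe, hinv, h1', Matrix.SpecialLinearGroup.coe_neg, Matrix.SpecialLinearGroup.coe_one]
    ext i j; fin_cases i <;> fin_cases j <;> simp

theorem cusp_bMk_unipotent (a : Fˣ) (ha : (a : F) * a = 1) {b : F} (hb : b ≠ 0) :
    cusp C θ α (bMk a b : SL2) = -α (a : F) := by
  have hinv : ((a⁻¹ : Fˣ) : F) = (a : F) := by
    rw [Units.val_inv_eq_inv_val]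
    exact inv_eq_of_mul_eq_one_right ha
  have h10 : ((bMk a b : SL2) : Matrix (Fin 2) (Fin 2) F) 1 0 = 0 := by simp [bMk_coe]
  have h01 : ((bMk a b : SL2) : Matrix (Fin 2) (Fin 2) F) 0 1 ≠ 0 := by simpa [bMk_coe] using hb
  have he : ((bMk a b : SL2) : Matrix (Fin 2) (Fin 2) F) 0 0 =
      ((bMk a b : SL2) : Matrix (Fin 2) (Fin 2) F) 1 1 := by
    rw [bMk_coe, hinv]; simp
  rw [cusp, Pi.sub_apply, borelPart, R_upper _ h10 he h01, R_upper _ h10 he h01,
    torusPart_of_root θ h, sub_zero]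
  · simp [bMk_coe, MulChar.one_apply]
    ring
  · intro hc
    exact h01 (mem_center_iff_entries.1 hc).1
  · refine ⟨a, ?_⟩
    simp only [bMk_coe, Matrix.trace_fin_two_of, hinv]
    linear_combination -ha

variable (hα : α (-1) = (θ ⟨-1, h.neg_one_mem⟩ : ℂ))

omit h in
theorem R_one_center : R α (1 : SL2) = (Fintype.card F : ℂ) + 1 := by
  rw [R_scalar α (g := (1 : SL2)) (by simp) (by simp) (by simp)]
  simp

omit h in
theorem R_neg_one_center : R α (-1 : SL2) = ((Fintype.card F : ℂ) + 1) * α (-1) := by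
  rw [R_scalar α (g := (-1 : SL2)) (by simp) (by simp) (by simp)]
  simp

theorem cusp_one : cusp C θ α 1 = (Fintype.card F : ℂ) - 1 := by
  have ht := torusPart_central θ h (z := (1 : C)) (by simp)
  rw [Subgroup.coe_one, map_one, Units.val_one] at ht
  rw [cusp, Pi.sub_apply, borelPart, R_one_center, R_one_center, ht]
  ring

include hα in
theorem cusp_neg_one : cusp C θ α (-1) = ((Fintype.card F : ℂ) - 1) * α (-1) := by
  have ht := torusPart_central θ h (z := ⟨-1, h.neg_one_mem⟩) CfsgLib.SL2Deg.neg_one_mem_center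
  rw [cusp, Pi.sub_apply, borelPart, R_neg_one_center, R_neg_one_center, ← hα] at *
  rw [ht, MulChar.one_apply isUnit_one.neg]
  ring

theorem cusp_noncentral {c : C} (hc : (c : SL2) ∉ Subgroup.center SL2) :
    cusp C θ α (c : SL2) = -((θ c : ℂ) + ((θ c)⁻¹ : ℂˣ).val) := by
  rw [cusp, Pi.sub_apply, borelPart,
    R_noEigen α (noEigen_of_no_root (h.centralizer c.2 hc).2), mul_zero,
    torusPart_noncentral θ h hc, zero_sub]

omit h in
/-- The inner product of the Borel part with a class function constant on the unipotent classes. -/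
theorem classInner_borelPart (hodd : Odd (Fintype.card F)) {φ : SL2 → ℂ}
    (hφ : Cfsg.IsClassFunction SL2 φ) (w : F → ℂ)
    (hw : ∀ (a : Fˣ) (b : F), (a : F) * a = 1 → b ≠ 0 → φ (bMk a b : SL2) = w a) :
    Cfsg.classInner (borelPart α) φ = (Fintype.card F : ℂ)⁻¹ *
      ((conj (φ 1) - conj (w 1)) + α (-1) * (conj (φ (-1)) - conj (w (-1)))) := by
  have h2 := CfsgLib.SL2Deg.two_ne_zero_of_odd hodd
  have e : borelPart α = Cfsg.indFun (borel F) (fun b => α (((b : SL2) :
      Matrix (Fin 2) (Fin 2) F) 0 0) * (R (1 : MulChar F ℂ) (b : SL2) - 2)) := by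
    have hcl : Cfsg.IsClassFunction SL2 (fun g => R (1 : MulChar F ℂ) g - 2) := fun g k => by
      simp only [isClassFunction_R _ g k]
    rw [CfsgLib.Char.indFun_mul_res (borel F) _ _ hcl]
    funext g
    exact mul_comm _ _
  rw [e, CfsgLib.Char.classInner_indFun _ _ _ hφ]
  unfold Cfsg.classInner
  rw [← (borelEquiv (F := F)).symm.sum_comp, Fintype.sum_prod_type]
  show (Nat.card (borel F) : ℂ)⁻¹ * ∑ a : Fˣ, ∑ b : F,
    α (((bMk a b : SL2) : Matrix (Fin 2) (Fin 2) F) 0 0) *
      (R (1 : MulChar F ℂ) (bMk a b : SL2) - 2) * conj (φ (bMk a b : SL2)) = _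
  have hreg : ∀ a : Fˣ, a ≠ 1 ∧ a ≠ -1 → ∑ b : F,
      α (((bMk a b : SL2) : Matrix (Fin 2) (Fin 2) F) 0 0) *
      (R (1 : MulChar F ℂ) (bMk a b : SL2) - 2) * conj (φ (bMk a b : SL2)) = 0 := by
    intro a ha
    refine Finset.sum_eq_zero fun b _ => ?_
    have hne : ((bMk a b : SL2) : Matrix (Fin 2) (Fin 2) F) 0 0 ≠
        ((bMk a b : SL2) : Matrix (Fin 2) (Fin 2) F) 1 1 := by
      intro e'
      simp [bMk_coe] at e'
      have : (a : F) * a = 1 := by
        nth_rewrite 2 [e']
        exact mul_inv_cancel₀ a.ne_zero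
      rcases mul_self_eq_one_iff.1 this with h1 | h1
      · exact ha.1 (Units.ext h1)
      · exact ha.2 (Units.ext (by rw [h1]; rfl))
    rw [R_one_upper_regular (by simp [bMk_coe]) hne]
    simp [bMk_coe, MulChar.one_apply]
    norm_num
  have hne1 : (1 : Fˣ) ≠ -1 := fun e' => h2 (by
    have e'' := congrArg (fun a : Fˣ => (a : F)) e'
    simp only [Units.val_neg, Units.val_one] at e''
    linear_combination e'')
  rw [Fintype.sum_eq_add (1 : Fˣ) (-1) hne1 hreg]
  have hsp : ∀ a : Fˣ, (a : F) * a = 1 → ∑ b : F,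
      α (((bMk a b : SL2) : Matrix (Fin 2) (Fin 2) F) 0 0) *
      (R (1 : MulChar F ℂ) (bMk a b : SL2) - 2) * conj (φ (bMk a b : SL2)) =
      ((Fintype.card F : ℂ) - 1) * α (a : F) * (conj (φ (bMk a 0 : SL2)) - conj (w a)) := by
    intro a ha
    have hinv : ((a⁻¹ : Fˣ) : F) = (a : F) := by
      rw [Units.val_inv_eq_inv_val]
      exact inv_eq_of_mul_eq_one_right ha
    have hb : ∀ b ∈ Finset.univ.erase (0 : F),
        α (((bMk a b : SL2) : Matrix (Fin 2) (Fin 2) F) 0 0) *
          (R (1 : MulChar F ℂ) (bMk a b : SL2) - 2) * conj (φ (bMk a b : SL2)) =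
        -(α (a : F) * conj (w a)) := by
      intro b hb
      have hb0 := Finset.ne_of_mem_erase hb
      rw [R_upper _ (by simp [bMk_coe]) (by rw [bMk_coe, hinv]; simp) (by simpa [bMk_coe] using hb0),
        hw a b ha hb0]
      simp [bMk_coe, MulChar.one_apply]
      ring
    rw [← Finset.add_sum_erase _ _ (Finset.mem_univ (0 : F)), Finset.sum_congr rfl hb,
      Finset.sum_const, Finset.card_erase_of_mem (Finset.mem_univ _), Finset.card_univ,
      nsmul_eq_mul, Nat.cast_sub Fintype.card_pos,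
      R_scalar _ (by simp [bMk_coe]) (by simp [bMk_coe]) (by rw [bMk_coe, hinv]; simp)]
    simp [bMk_coe, MulChar.one_apply]
    ring
  have e1 : (bMk (1 : Fˣ) 0 : SL2) = 1 := by
    apply Subtype.ext
    rw [bMk_coe, Matrix.SpecialLinearGroup.coe_one]
    ext i j; fin_cases i <;> fin_cases j <;> simp
  have e2 : (bMk (-1 : Fˣ) 0 : SL2) = -1 := by
    apply Subtype.ext
    rw [bMk_coe, Matrix.SpecialLinearGroup.coe_neg, Matrix.SpecialLinearGroup.coe_one]
    ext i j; fin_cases i <;> fin_cases j <;> simp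
  rw [hsp 1 (by simp), hsp (-1) (by simp), e1, e2, card_borel, Nat.cast_mul,
    Nat.cast_sub Fintype.card_pos]
  have hq : (Fintype.card F : ℂ) ≠ 0 := Nat.cast_ne_zero.2 Fintype.card_ne_zero
  have hq1 : (Fintype.card F : ℂ) - 1 ≠ 0 := sub_ne_zero.2 (by
    exact_mod_cast (Fintype.one_lt_card (α := F)).ne')
  simp only [Units.val_neg, Units.val_one, MulChar.map_one, Nat.cast_one]
  field_simp

include hα in
theorem classInner_torusPart_cusp :
    Cfsg.classInner (torusPart C θ) (cusp C θ α) =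
      1 - (∑ c : C, (θ c : ℂ) * θ c) / ((Fintype.card F : ℂ) + 1) := by
  classical
  rw [torusPart, CfsgLib.Char.classInner_indFun _ _ _ (isClassFunction_cusp θ α)]
  unfold Cfsg.classInner
  set z₁ : C := 1 with hz₁
  set z₂ : C := ⟨-1, h.neg_one_mem⟩ with hz₂
  have hterm : ∀ c : C, (θ c : ℂ) * conj (cusp C θ α (c : SL2)) =
      -(1 + (θ c : ℂ) * θ c) + (if c = z₁ then ((Fintype.card F : ℂ) + 1) else 0) +
        (if c = z₂ then ((Fintype.card F : ℂ) + 1) else 0) := by
    intro c
    by_cases hc : (c : SL2) ∈ Subgroup.center SL2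
    · have hne : (1 : SL2) ≠ -1 := (neg_one_ne_one h.two_ne_zero).symm
      rcases CfsgLib.SL2Deg.center_cases hc with e | e
      · have e' : c = z₁ := Subtype.ext e
        rw [e', if_pos rfl, if_neg (fun e'' => hne (congrArg Subtype.val e'')), hz₁,
          Subgroup.coe_one, cusp_one θ α h, map_one, Units.val_one, map_sub, map_natCast, map_one]
        ring
      · have e' : c = z₂ := Subtype.ext e
        rw [e', if_pos rfl, if_neg (fun e'' => hne (congrArg Subtype.val e'').symm), hz₂,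
          cusp_neg_one θ α h hα, map_mul, map_sub, map_natCast, map_one, hα, conj_theta]
        have h2 := theta_mul_self θ (c := z₂) rfl
        rw [← hz₂, show ((θ z₂)⁻¹ : ℂˣ).val = (θ z₂ : ℂ) from by
          rw [Units.val_inv_eq_inv_val]; exact inv_eq_of_mul_eq_one_right h2]
        linear_combination ((Fintype.card F : ℂ)) * h2
    · rw [cusp_noncentral θ α h hc, if_neg, if_neg, map_neg, map_add, conj_theta]
      · have e' : conj (((θ c)⁻¹ : ℂˣ).val) = (θ c : ℂ) := by
          rw [← conj_theta, Complex.conj_conj]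
        rw [e']
        have := (θ c).mul_inv
        linear_combination -this
      · rintro rfl; exact hc CfsgLib.SL2Deg.neg_one_mem_center
      · rintro rfl; exact hc (one_mem _)
  rw [Finset.sum_congr rfl fun c _ => hterm c, Finset.sum_add_distrib, Finset.sum_add_distrib,
    Finset.sum_ite_eq', Finset.sum_ite_eq', if_pos (Finset.mem_univ _), if_pos (Finset.mem_univ _),
    Finset.sum_neg_distrib, Finset.sum_add_distrib, Finset.sum_const, Finset.card_univ,
    nsmul_eq_mul, mul_one, ← Nat.card_eq_fintype_card, h.card]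
  have : ((Fintype.card F : ℂ) + 1) ≠ 0 := Nat.cast_add_one_ne_zero _
  push_cast
  field_simp
  ring

include hα in
theorem classInner_cusp_self :
    Cfsg.classInner (cusp C θ α) (cusp C θ α) =
      1 + (∑ c : C, (θ c : ℂ) * θ c) / ((Fintype.card F : ℂ) + 1) := by
  have hb := classInner_borelPart α h.odd (isClassFunction_cusp θ α) (fun x => -α x)
    (fun a b ha hb => cusp_bMk_unipotent θ α h a ha hb)
  conv_lhs => arg 1; rw [cusp]
  rw [CfsgLib.Char.classInner_sub_left, hb, classInner_torusPart_cusp θ α h hα, cusp_one θ α h,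
    cusp_neg_one θ α h hα]
  have hq : (Fintype.card F : ℂ) ≠ 0 := Nat.cast_ne_zero.2 Fintype.card_ne_zero
  have hw : α (-1) * α (-1) = 1 := by rw [← map_mul, neg_one_mul, neg_neg, MulChar.map_one]
  have hc : conj (α (-1)) = α (-1) := by
    rcases mul_self_eq_one_iff.1 hw with e | e <;> simp [e]
  simp only [map_sub, map_mul, map_neg, map_natCast, map_one, MulChar.map_one, hc]
  field_simp
  linear_combination ((Fintype.card F : ℂ) ^ 2 + (Fintype.card F : ℂ)) * hw

theorem classInner_cusp_one (hθ : ∃ c, θ c ≠ 1) :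
    Cfsg.classInner (cusp C θ α) (fun _ => 1) = 0 := by
  have hcl : Cfsg.IsClassFunction SL2 (fun _ => (1 : ℂ)) := fun _ _ => rfl
  have hb := classInner_borelPart α h.odd hcl (fun _ => 1) (fun _ _ _ _ => rfl)
  rw [cusp, CfsgLib.Char.classInner_sub_left, hb, torusPart,
    CfsgLib.Char.classInner_indFun _ _ _ hcl]
  unfold Cfsg.classInner
  obtain ⟨c₀, hc₀⟩ := hθ
  have hs : ∑ c : C, (θ c : ℂ) = 0 := by
    have e : ∑ c : C, (θ c : ℂ) = (θ c₀ : ℂ) * ∑ c : C, (θ c : ℂ) := by
      rw [Finset.mul_sum]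
      exact (Fintype.sum_equiv (Equiv.mulLeft c₀) _ _ fun c => by simp).symm
    by_contra hne
    exact hc₀ (Units.ext (mul_right_cancel₀ hne (by rw [Units.val_one, one_mul]; exact e.symm)))
  simp [hs]

end Torus

theorem sum_sq_eq_zero {θ : C →* ℂˣ} (hθ : ∃ c, θ c ^ 2 ≠ 1) :
    ∑ c : C, (θ c : ℂ) * θ c = 0 := by
  obtain ⟨c₀, hc₀⟩ := hθ
  have e : ∑ c : C, (θ c : ℂ) * θ c = ((θ c₀ : ℂ) * θ c₀) * ∑ c : C, (θ c : ℂ) * θ c := by
    rw [Finset.mul_sum]
    exact (Fintype.sum_equiv (Equiv.mulLeft c₀) _ _ fun c => by simp [mul_mul_mul_comm]).symm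
  by_contra hne
  refine hc₀ (Units.ext ?_)
  rw [Units.val_pow_eq_pow_val, Units.val_one, pow_two]
  exact mul_right_cancel₀ hne (by rw [one_mul]; exact e.symm)

end CfsgLib.SL2Cusp
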