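import Cfsg.Agent.Lib.SL2Deg.Degrees
import Cfsg.Agent.Lib.SL2Trace.Tori

/-! Non-split tori of `SL₂(F)`, given as cyclic subgroups of order `q + 1`. -/

set_option autoImplicit false

namespace CfsgLib.SL2Cusp

open Matrix CfsgLib.SL2Trace

variable {F : Type*} [Field F] [Fintype F]

local notation "SL2" => Matrix.SpecialLinearGroup (Fin 2) F

/-- The hypotheses on a non-split torus. -/
structure NSTorus (C : Subgroup (Matrix.SpecialLinearGroup (Fin 2) F)) : Prop where
  odd : Odd (Fintype.card F)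
  cyclic : IsCyclic C
  card : Nat.card C = Fintype.card F + 1

variable {C : Subgroup (Matrix.SpecialLinearGroup (Fin 2) F)}

theorem NSTorus.two_ne_zero (h : NSTorus C) : (2 : F) ≠ 0 :=
  CfsgLib.SL2Trace.two_ne_zero_of_odd h.odd

theorem neg_one_ne_one (h2 : (2 : F) ≠ 0) : (-1 : SL2) ≠ 1 := by
  intro e
  have := congrArg (fun g : SL2 => (g : Matrix (Fin 2) (Fin 2) F) 0 0) e
  simp only [Matrix.SpecialLinearGroup.coe_neg, Matrix.SpecialLinearGroup.coe_one,
    Matrix.neg_apply, Matrix.one_apply_eq] at this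
  exact h2 (by linear_combination -this)

theorem neg_one_mul_self : (-1 : SL2) * -1 = 1 := neg_mul_neg 1 1 |>.trans (one_mul 1)

theorem noEigen_of_no_root {g : SL2}
    (h : ¬ ∃ u : F, u ^ 2 - (g : Matrix (Fin 2) (Fin 2) F).trace * u + 1 = 0) :
    ∀ (c : F) (v : Fin 2 → F), v ≠ 0 → (g : Matrix (Fin 2) (Fin 2) F).mulVec v ≠ c • v := by
  intro c v hv he
  have h2 := congrArg (fun M : Matrix (Fin 2) (Fin 2) F => M.mulVec v) (mul_self_eq g)
  simp only [← Matrix.mulVec_mulVec, he, Matrix.mulVec_smul, Matrix.sub_mulVec,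
    Matrix.smul_mulVec, Matrix.one_mulVec, smul_smul] at h2
  have h3 : (c * c - (g : Matrix (Fin 2) (Fin 2) F).trace * c + 1) • v = 0 := by
    rw [add_smul, sub_smul, one_smul, h2]
    abel
  rcases smul_eq_zero.1 h3 with h4 | h4
  · exact h ⟨c, by linear_combination h4⟩
  · exact hv h4

theorem no_root_of_noEigen {g : SL2}
    (h : ∀ (c : F) (v : Fin 2 → F), v ≠ 0 → (g : Matrix (Fin 2) (Fin 2) F).mulVec v ≠ c • v) :
    ¬ ∃ u : F, u ^ 2 - (g : Matrix (Fin 2) (Fin 2) F).trace * u + 1 = 0 := by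
  rintro ⟨u, hu⟩
  have hd := det_coe g
  rw [Matrix.trace_fin_two] at hu
  by_cases hv : (g : Matrix (Fin 2) (Fin 2) F) 0 1 = 0 ∧
      u - (g : Matrix (Fin 2) (Fin 2) F) 0 0 = 0
  · refine h ((g : Matrix (Fin 2) (Fin 2) F) 1 1) ![0, 1] (by simp) ?_
    funext i
    fin_cases i <;> simp [Matrix.mulVec, dotProduct, Fin.sum_univ_two, hv.1]
  · refine h u ![(g : Matrix (Fin 2) (Fin 2) F) 0 1, u - (g : Matrix (Fin 2) (Fin 2) F) 0 0] ?_ ?_
    · intro h0
      exact hv ⟨by simpa using congrFun h0 0, by simpa using congrFun h0 1⟩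
    · funext i
      fin_cases i <;> simp [Matrix.mulVec, dotProduct, Fin.sum_univ_two]
      · ring
      · linear_combination (-1 : F) * hu - hd

theorem NSTorus.regular (h : NSTorus C) {c : SL2} (hc : c ∈ C)
    (hz : c ∉ Subgroup.center SL2) : (c : Matrix (Fin 2) (Fin 2) F).trace ^ 2 ≠ 4 := by
  intro ht
  have := Fact.mk (CharP.char_is_prime F (ringChar F))
  have hp := pow_char_mem_center (ringChar F) c ht
  have h1 : c ^ (2 * ringChar F) = 1 := by
    rw [mul_comm, pow_mul, pow_two]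
    exact mul_self_eq_one_of_mem_center hp
  have h2 : c ^ Nat.card C = 1 := by
    have := pow_card_eq_one' (x := (⟨c, hc⟩ : C))
    have e := congrArg (fun x : C => (x : SL2)) this
    simp only [Subgroup.coe_pow, Subgroup.coe_one] at e
    exact e
  rw [h.card] at h2
  have hpodd : Odd (ringChar F) := by
    rcases (CharP.char_is_prime F (ringChar F)).eq_two_or_odd' with e | e
    · exact absurd (by exact_mod_cast (ringChar.eq_iff.1 e).cast_eq_zero (R := F)) h.two_ne_zero
    · exact e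
  have hcop : Nat.Coprime (ringChar F) (Fintype.card F + 1) := by
    refine (Nat.Prime.coprime_iff_not_dvd (CharP.char_is_prime F (ringChar F))).2 fun hd => ?_
    obtain ⟨n, -, hn⟩ := FiniteField.card F (ringChar F)
    have : ringChar F ∣ Fintype.card F := hn ▸ dvd_pow_self _ n.pos.ne'
    exact (CharP.char_is_prime F (ringChar F)).one_lt.ne'
      (Nat.dvd_one.1 ((Nat.dvd_add_right this).1 hd))
  have h3 : c ^ 2 = 1 := by
    apply orderOf_dvd_iff_pow_eq_one.1
    have := Nat.dvd_gcd (orderOf_dvd_of_pow_eq_one h1) (orderOf_dvd_of_pow_eq_one h2)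
    refine this.trans ?_
    rw [Nat.Coprime.gcd_mul_right_cancel 2 hcop]
    exact Nat.gcd_dvd_left _ _
  exact hz (mem_center_of_sq_eq_one h.two_ne_zero (by rw [← pow_two]; exact h3))

theorem NSTorus.centralizer (h : NSTorus C) {c : SL2} (hc : c ∈ C)
    (hz : c ∉ Subgroup.center SL2) :
    C = Subgroup.centralizer ({c} : Set SL2) ∧
      ¬ ∃ u : F, u ^ 2 - (c : Matrix (Fin 2) (Fin 2) F).trace * u + 1 = 0 := by
  obtain ⟨-, hs, hn⟩ := centralizer_card_cyclic c (h.regular hc hz)
  have hle : C ≤ Subgroup.centralizer ({c} : Set SL2) := fun x hx => by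
    have := h.cyclic
    rw [Subgroup.mem_centralizer_singleton_iff]
    exact congrArg Subtype.val
      (IsMulCommutative.is_comm.comm (⟨x, hx⟩ : C) (⟨c, hc⟩ : C))
  have hno : ¬ ∃ u : F, u ^ 2 - (c : Matrix (Fin 2) (Fin 2) F).trace * u + 1 = 0 := fun hr => by
    have := Subgroup.card_le_of_le hle
    rw [h.card, hs hr] at this
    omega
  exact ⟨Subgroup.eq_of_le_of_card_ge hle (by rw [hn hno, h.card]), hno⟩

theorem NSTorus.neg_one_mem (h : NSTorus C) : (-1 : SL2) ∈ C := by
  classical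
  obtain ⟨k, hk⟩ := h.odd
  have := Fact.mk Nat.prime_two
  obtain ⟨x, hx⟩ := exists_prime_orderOf_dvd_card' (G := C) 2 (by rw [h.card]; omega)
  have hx2 : (x : SL2) * x = 1 := by
    have h' := pow_orderOf_eq_one x
    rw [hx, pow_two] at h'
    simpa using congrArg Subtype.val h'
  rcases CfsgLib.SL2Deg.center_cases (mem_center_of_sq_eq_one h.two_ne_zero hx2) with e | e
  · exfalso
    rw [show x = 1 from Subtype.ext e, orderOf_one] at hx
    omega
  · exact e ▸ x.2

theorem NSTorus.mem_center_iff (_h : NSTorus C) {c : SL2} :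
    c ∈ Subgroup.center SL2 ↔ c = 1 ∨ c = -1 := by
  classical
  refine ⟨CfsgLib.SL2Deg.center_cases, ?_⟩
  rintro (rfl | rfl)
  · exact one_mem _
  · exact CfsgLib.SL2Deg.neg_one_mem_center

/-- The centralizer of an element without eigenvectors is a non-split torus. -/
theorem nsTorus_centralizer (hodd : Odd (Fintype.card F)) {g : SL2}
    (hg : ∀ (c : F) (v : Fin 2 → F), v ≠ 0 → (g : Matrix (Fin 2) (Fin 2) F).mulVec v ≠ c • v) :
    NSTorus (Subgroup.centralizer ({g} : Set SL2)) ∧ g ∉ Subgroup.center SL2 := by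
  have hno := no_root_of_noEigen hg
  have hreg : (g : Matrix (Fin 2) (Fin 2) F).trace ^ 2 ≠ 4 := fun ht =>
    hno (exists_root_of_sq_eq_four _ ht)
  obtain ⟨hcy, -, hn⟩ := centralizer_card_cyclic g hreg
  exact ⟨⟨hodd, hcy, hn hno⟩, fun hz => hreg (trace_sq_of_mem_center hz)⟩

end CfsgLib.SL2Cusp
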